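import Cfsg.Agent.Normalisers5.Core
import Cfsg.Agent.AutPSL.Centralizer
import Cfsg.Agent.ClMax99.PSLMax

/-!
# The almost simple case

A group with a subgroup `PSL(2,q)` of index two, `q` odd, in which odd elements centralising a
common involution commute, is `PGL(2,q)`.
-/

set_option autoImplicit false
set_option linter.style.haveILetI false
set_option linter.unusedSectionVars false

namespace Cfsg.Agent.Normalisers5

open Subgroup AutPSL

variable {G : Type*} [Group G] [Finite G]

/-- A nontrivial field automorphism of order two fixes two noncommuting elements of odd order. -/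
theorem exists_fixed_pair {F : Type} [Field F] [Fintype F] (hodd : Odd (Fintype.card F))
    {σ : F ≃+* F} {φ : MulAut (Matrix.ProjectiveSpecialLinearGroup (Fin 2) F)}
    (hφ : IsSemi (1 : GL (Fin 2) F) σ φ) :
    ∃ T₁ T₂ : Matrix.ProjectiveSpecialLinearGroup (Fin 2) F, φ T₁ = T₁ ∧ φ T₂ = T₂ ∧
      Odd (orderOf T₁) ∧ Odd (orderOf T₂) ∧ T₁ * T₂ ≠ T₂ * T₁ := by
  let U : F → Matrix.SpecialLinearGroup (Fin 2) F := fun x =>
    ⟨!![1, x; 0, 1], by rw [Matrix.det_fin_two_of]; ring⟩
  let V : F → Matrix.SpecialLinearGroup (Fin 2) F := fun x =>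
    ⟨!![1, 0; x, 1], by rw [Matrix.det_fin_two_of]; ring⟩
  have hU : ∀ x y, U x * U y = U (x + y) := by
    intro x y
    apply Subtype.ext
    show (!![1, x; 0, 1] : Matrix (Fin 2) (Fin 2) F) * !![1, y; 0, 1] = !![1, x + y; 0, 1]
    simp [add_comm]
  have hV : ∀ x y, V x * V y = V (x + y) := by
    intro x y
    apply Subtype.ext
    show (!![1, 0; x, 1] : Matrix (Fin 2) (Fin 2) F) * !![1, 0; y, 1] = !![1, 0; x + y, 1]
    simp
  set s₁ := U 1 with hs₁
  set s₂ := V 1 with hs₂
  have hord : ∀ (W : F → Matrix.SpecialLinearGroup (Fin 2) F), (∀ x y, W x * W y = W (x + y)) →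
      W 0 = 1 →
      Odd (orderOf (QuotientGroup.mk (W 1) : Matrix.ProjectiveSpecialLinearGroup (Fin 2) F)) := by
    intro W hW h0
    refine hodd.of_dvd_nat (orderOf_dvd_of_pow_eq_one ?_)
    have hpow : ∀ n : ℕ, W 1 ^ n = W (n : F) := by
      intro n
      induction n with
      | zero => rw [pow_zero, Nat.cast_zero, h0]
      | succ n ih => rw [pow_succ, ih, hW, Nat.cast_succ]
    rw [← QuotientGroup.mk_pow, hpow, Nat.cast_card_eq_zero, h0, QuotientGroup.mk_one]
  have hfix : ∀ s : Matrix.SpecialLinearGroup (Fin 2) F,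
      (s : Matrix (Fin 2) (Fin 2) F).map σ = (s : Matrix (Fin 2) (Fin 2) F) →
      φ (QuotientGroup.mk s) = QuotientGroup.mk s := by
    intro s hs
    refine hφ s s (Units.ext ?_)
    rw [act_coe, rho_coe, hs]
    simp
  refine ⟨QuotientGroup.mk s₁, QuotientGroup.mk s₂, hfix s₁ ?_, hfix s₂ ?_, hord U hU ?_, hord V hV ?_, ?_⟩
  · ext i j; fin_cases i <;> fin_cases j <;> simp [hs₁, U]
  · ext i j; fin_cases i <;> fin_cases j <;> simp [hs₂, V]
  · refine Matrix.SpecialLinearGroup.ext _ _ fun i j => ?_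
    fin_cases i <;> fin_cases j <;> simp [U]
  · refine Matrix.SpecialLinearGroup.ext _ _ fun i j => ?_
    fin_cases i <;> fin_cases j <;> simp [V]
  · intro h
    rw [← QuotientGroup.mk_mul, ← QuotientGroup.mk_mul, QuotientGroup.eq] at h
    obtain ⟨r, -, hr⟩ := Matrix.SpecialLinearGroup.mem_center_iff.mp h
    have hm : ((s₁ * s₂ : Matrix.SpecialLinearGroup (Fin 2) F) : Matrix (Fin 2) (Fin 2) F) *
        Matrix.scalar (Fin 2) r =
          ((s₂ * s₁ : Matrix.SpecialLinearGroup (Fin 2) F) : Matrix (Fin 2) (Fin 2) F) := by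
      rw [hr, ← Matrix.SpecialLinearGroup.coe_mul, mul_inv_cancel_left]
    have hm' : (!![1, 1; 0, 1] : Matrix (Fin 2) (Fin 2) F) * !![1, 0; 1, 1] *
        Matrix.scalar (Fin 2) r = !![1, 0; 1, 1] * !![1, 1; 0, 1] := hm
    have e1 := congrArg (fun M : Matrix (Fin 2) (Fin 2) F => M 0 0) hm'
    have e2 := congrArg (fun M : Matrix (Fin 2) (Fin 2) F => M 0 1) hm'
    simp [Matrix.scalar_apply] at e1 e2
    rw [e2] at e1
    simp at e1

/-- The almost simple case. -/
theorem pgl_of_index_two (hG : Hyp G) (hn : NoSolv G) (M : Subgroup G) [M.Normal] {u : G}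
    (hMi : M.index = 2) (huM : u ∉ M) (hu : orderOf u = 2) (F : Type) [Field F] [Fintype F]
    (hodd : Odd (Fintype.card F))
    (e : M ≃* Matrix.ProjectiveSpecialLinearGroup (Fin 2) F) :
    Nonempty (G ≃* Matrix.ProjGenLinGroup (Fin 2) F) := by
  have hmul := fun {x y : G} => Subgroup.mul_mem_iff_of_index_two (a := x) (b := y) hMi
  let Φ : G →* MulAut (Matrix.ProjectiveSpecialLinearGroup (Fin 2) F) :=
    { toFun := fun g => (e.symm.trans (MulAut.conjNormal g)).trans e
      map_one' := by ext; simp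
      map_mul' := fun g h => by ext; simp [MulAut.conjNormal, mul_smul] }
  have hΦ : ∀ (g : G) (T : Matrix.ProjectiveSpecialLinearGroup (Fin 2) F),
      ((e.symm (Φ g T) : M) : G) = g * ((e.symm T : M) : G) * g⁻¹ := by
    intro g T
    show ((e.symm (e (MulAut.conjNormal g (e.symm T))) : M) : G) = _
    rw [e.symm_apply_apply, MulAut.conjNormal_apply]
  have hinj : Function.Injective Φ := by
    rw [← MonoidHom.ker_eq_bot_iff]
    refine hn _ inferInstance ?_
    refine Group.isSolvable_of_comm ?_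
    have hcomm : ∀ a : Φ.ker, ∀ m : M, (a : G) * m = m * a := by
      intro a m
      have h := hΦ a (e m)
      rw [show Φ (a : G) = 1 from a.2, MulAut.one_apply, e.symm_apply_apply] at h
      exact (mul_inv_eq_iff_eq_mul.mp h.symm)
    have hbot : ∀ a : Φ.ker, (a : G) ∈ M → a = 1 := by
      have hZ : Subgroup.map M.subtype (Subgroup.center M) = ⊥ := hn _ inferInstance (by
        haveI : IsMulCommutative (Subgroup.center M) := inferInstance
        haveI := Group.isSolvable_of_comm (fun a b : Subgroup.center M => mul_comm' a b)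
        exact Group.isSolvable_of_surjective
          (f := ((Subgroup.center M).equivMapOfInjective _ M.subtype_injective).toMonoidHom)
          ((Subgroup.center M).equivMapOfInjective _ M.subtype_injective).surjective)
      intro a ha
      have : (⟨a, ha⟩ : M) ∈ Subgroup.center M :=
        Subgroup.mem_center_iff.mpr fun m => Subtype.ext (hcomm a m).symm
      exact Subtype.ext (Subgroup.mem_bot.mp (hZ ▸ ⟨_, this, rfl⟩ : (a : G) ∈ (⊥ : Subgroup G)))
    intro a b
    by_cases ha : (a : G) ∈ M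
    · rw [hbot a ha, one_mul, mul_one]
    by_cases hb : (b : G) ∈ M
    · rw [hbot b hb, one_mul, mul_one]
    have := hbot (a⁻¹ * b) (hmul.mpr (by simp [ha, hb]))
    rw [inv_mul_eq_one] at this
    rw [this]
  have hM : ∀ g ∈ M, Φ g ∈ (pgl 2 F).range := by
    intro g hg
    obtain ⟨s, hs⟩ := QuotientGroup.mk_surjective (e ⟨g, hg⟩)
    refine ⟨rho 2 F s, ?_⟩
    rw [pgl_rho, hs]
    refine MulEquiv.ext fun T => e.symm.injective (Subtype.ext ?_)
    rw [hΦ, MulAut.conj_apply, map_mul, map_mul, map_inv, e.symm_apply_apply]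
    rfl
  obtain ⟨g, σ, β, hβ, hαβ⟩ := exists_semi (n := 2) le_rfl (Φ u)
  have hα : Φ u = β := hαβ.resolve_right (fun h => by omega)
  have hσ : σ = 1 := by
    by_contra hσ
    have hu2 : Φ u * Φ u = 1 := by rw [← map_mul, mul_self_eq_one hu, map_one]
    have hσ2 : σ * σ = 1 := by
      have h := hβ.pow 2
      rw [← hα, pow_two (Φ u), hu2] at h
      have := (IsSemi.eq_one le_rfl h).1
      rwa [pow_two] at this
    obtain ⟨φ, hφ⟩ := exists_induced (S := Matrix.SpecialLinearGroup (Fin 2) F) rho_injective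
      (normalises_psl (1 : GL (Fin 2) F) σ)
    have hδ : β * φ⁻¹ ∈ Cfsg.inndiagPSL 2 F := by
      rw [← pgl_range]
      refine ⟨g, (eq_pgl ?_).symm⟩
      have h := Induced.comp (normalises_psl _ _) hβ
        (Induced.inverse rho_injective (normalises_psl 1 σ) hφ)
      rwa [inv_one, map_one, map_one, mul_one, mul_inv_cancel] at h
    have ho : orderOf (β * φ⁻¹ * φ) = orderOf φ := by
      rw [inv_mul_cancel_right, ← hα, orderOf_stdField le_rfl hφ, orderOf_two hσ2 hσ]
      refine orderOf_two hu2 fun h => ne_one_of_two hu (hinj (h.trans (map_one Φ).symm))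
    obtain ⟨η, -, hη⟩ := field_coset le_rfl hφ hδ ho
    rw [inv_mul_cancel_right] at hη
    obtain ⟨T₁, T₂, h₁, h₂, ho₁, ho₂, hne⟩ := exists_fixed_pair hodd hφ
    have key : ∀ T, φ T = T → Commute ((e.symm (η T) : M) : G) u := by
      intro T hT
      have h := hΦ u (η T)
      rw [hα, hη, MulAut.mul_apply, MulAut.mul_apply, MulAut.inv_apply_self, hT] at h
      exact (mul_inv_eq_iff_eq_mul.mp h.symm).symm
    have hc := odd_commute hG hu (key T₁ h₁) (key T₂ h₂)
      (by rw [Subgroup.orderOf_coe, MulEquiv.orderOf_eq, MulEquiv.orderOf_eq]; exact ho₁)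
      (by rw [Subgroup.orderOf_coe, MulEquiv.orderOf_eq, MulEquiv.orderOf_eq]; exact ho₂)
    have hc' : e.symm (η T₁) * e.symm (η T₂) = e.symm (η T₂) * e.symm (η T₁) := Subtype.ext hc.eq
    rw [← map_mul e.symm, ← map_mul e.symm] at hc'
    have h3 := e.symm.injective hc'
    rw [← map_mul η, ← map_mul η] at h3
    exact hne (η.injective h3)
  have hu' : Φ u ∈ (pgl 2 F).range := ⟨g, by rw [hα]; exact (eq_pgl (hσ ▸ hβ)).symm⟩
  have hrange : ∀ x : G, Φ x ∈ (pgl 2 F).range := by
    intro x
    by_cases hx : x ∈ M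
    · exact hM x hx
    · have := hM _ (hmul.mpr (show x ∈ M ↔ u ∈ M by simp [hx, huM]))
      rw [map_mul] at this
      have h2 := mul_mem this (inv_mem hu')
      rwa [mul_inv_cancel_right] at h2
  have hker : Subgroup.center (GL (Fin 2) F) = (pgl 2 F).ker := by
    ext a
    rw [MonoidHom.mem_ker, pgl_eq_one_iff le_rfl, Matrix.GeneralLinearGroup.center_eq_range_scalar]
    exact ⟨fun ⟨c, hc⟩ => ⟨c, hc.symm⟩, fun ⟨c, hc⟩ => ⟨c, hc.symm⟩⟩
  let ε : Matrix.ProjGenLinGroup (Fin 2) F ≃* (pgl 2 F).range :=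
    (QuotientGroup.quotientMulEquivOfEq hker).trans (QuotientGroup.quotientKerEquivRange _)
  have hcard : Nat.card G = Nat.card (pgl 2 F).range := by
    rw [← Nat.card_congr ε.toEquiv, ClMax99.card_PGL_two, ← ClMax99.card_PSL_two_odd
      (by rwa [Nat.card_eq_fintype_card]), ← Nat.card_congr e.toEquiv, ← M.card_mul_index, hMi,
      mul_comm]
  have hbij : Function.Bijective (Φ.codRestrict _ hrange) :=
    (Nat.bijective_iff_injective_and_card _).mpr
      ⟨fun a b h => hinj (congrArg Subtype.val h), hcard⟩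
  exact ⟨(MulEquiv.ofBijective _ hbij).trans ε.symm⟩

end Cfsg.Agent.Normalisers5
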