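import Cfsg.Agent.Normalisers5.Noncentral
import Cfsg.Agent.S2202

/-!
# All involutions central in their Sylow subgroups

Then the Sylow subgroups are abelian; either all centralisers of involutions are abelian, or the
Sylow subgroups are four-groups and a centraliser of an involution is of dihedral type.
-/

set_option autoImplicit false
set_option linter.style.haveILetI false
set_option linter.unusedSectionVars false

namespace Cfsg.Agent.Normalisers5

open Subgroup

variable {G : Type*} [Group G] [Finite G]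

/-- An involution of `SL(2,F)` in characteristic two is centralised only by involutions. -/
theorem sl2_sq_eq_one {F : Type*} [Field F] [CharP F 2]
    {A B : Matrix.SpecialLinearGroup (Fin 2) F} (hA : A * A = 1) (hA1 : A ≠ 1)
    (hB : B * A = A * B) : B * B = 1 := by
  have hAA : ∀ i j, ((A : Matrix (Fin 2) (Fin 2) F) * A) i j = (1 : Matrix (Fin 2) (Fin 2) F) i j :=
    fun i j => congrArg (fun M : Matrix.SpecialLinearGroup (Fin 2) F =>
      (M : Matrix (Fin 2) (Fin 2) F) i j) hA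
  have hBA : ∀ i j, ((B : Matrix (Fin 2) (Fin 2) F) * A) i j =
      ((A : Matrix (Fin 2) (Fin 2) F) * B) i j :=
    fun i j => congrArg (fun M : Matrix.SpecialLinearGroup (Fin 2) F =>
      (M : Matrix (Fin 2) (Fin 2) F) i j) hB
  have hdA := A.2
  have hdB := B.2
  rw [Matrix.det_fin_two] at hdA hdB
  simp only [Matrix.mul_apply, Fin.sum_univ_two] at hAA hBA
  have a1 := hAA 0 0
  have a2 := hAA 0 1
  have a3 := hAA 1 0
  have a4 := hAA 1 1
  have b1 := hBA 0 0
  have b2 := hBA 0 1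
  have b3 := hBA 1 0
  simp only [Matrix.one_apply, Fin.isValue, ↓reduceIte, Fin.zero_eq_one_iff, Fin.one_eq_zero_iff,
    OfNat.ofNat_ne_one] at a1 a2 a3 a4
  have h2 : (2 : F) = 0 := CharTwo.two_eq_zero
  have hp : (A : Matrix (Fin 2) (Fin 2) F) 0 0 = (A : Matrix (Fin 2) (Fin 2) F) 1 1 := by
    have : ((A : Matrix (Fin 2) (Fin 2) F) 0 0 - (A : Matrix (Fin 2) (Fin 2) F) 1 1) ^ 2 = 0 := by
      linear_combination a1 + a4 - 2 * hdA +
        (-2 * ((A : Matrix (Fin 2) (Fin 2) F) 0 1 * (A : Matrix (Fin 2) (Fin 2) F) 1 0)) * h2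
    exact sub_eq_zero.mp (pow_eq_zero_iff two_ne_zero |>.mp this)
  have hab : (B : Matrix (Fin 2) (Fin 2) F) 0 0 = (B : Matrix (Fin 2) (Fin 2) F) 1 1 := by
    by_contra hne
    have hd : (B : Matrix (Fin 2) (Fin 2) F) 0 0 - (B : Matrix (Fin 2) (Fin 2) F) 1 1 ≠ 0 :=
      sub_ne_zero.mpr hne
    have q0 : (A : Matrix (Fin 2) (Fin 2) F) 0 1 = 0 := (mul_eq_zero.mp (show
      ((B : Matrix (Fin 2) (Fin 2) F) 0 0 - (B : Matrix (Fin 2) (Fin 2) F) 1 1) *
        (A : Matrix (Fin 2) (Fin 2) F) 0 1 = 0 by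
      linear_combination b2 + (B : Matrix (Fin 2) (Fin 2) F) 0 1 * hp)).resolve_left hd
    have r0 : (A : Matrix (Fin 2) (Fin 2) F) 1 0 = 0 := (mul_eq_zero.mp (show
      ((B : Matrix (Fin 2) (Fin 2) F) 0 0 - (B : Matrix (Fin 2) (Fin 2) F) 1 1) *
        (A : Matrix (Fin 2) (Fin 2) F) 1 0 = 0 by
      linear_combination -b3 + (B : Matrix (Fin 2) (Fin 2) F) 1 0 * hp)).resolve_left hd
    rw [q0, r0, mul_zero, sub_zero, ← hp] at hdA
    have hp1 : (A : Matrix (Fin 2) (Fin 2) F) 0 0 = 1 := by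
      have : ((A : Matrix (Fin 2) (Fin 2) F) 0 0 - 1) ^ 2 = 0 := by
        linear_combination hdA + (1 - (A : Matrix (Fin 2) (Fin 2) F) 0 0) * h2
      exact sub_eq_zero.mp (pow_eq_zero_iff two_ne_zero |>.mp this)
    refine hA1 (Matrix.SpecialLinearGroup.ext _ _ fun i j => ?_)
    fin_cases i <;> fin_cases j <;> simp [q0, r0, hp1, ← hp]
  refine Matrix.SpecialLinearGroup.ext _ _ fun i j => ?_
  rw [Matrix.SpecialLinearGroup.coe_mul, Matrix.mul_apply, Fin.sum_univ_two,
    Matrix.SpecialLinearGroup.coe_one]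
  fin_cases i <;> fin_cases j <;> simp only [Fin.zero_eta, Fin.mk_one, Fin.isValue]
  · show _ = (1 : F)
    linear_combination hdB + (B : Matrix (Fin 2) (Fin 2) F) 0 0 * hab +
      (B : Matrix (Fin 2) (Fin 2) F) 0 1 * (B : Matrix (Fin 2) (Fin 2) F) 1 0 * h2
  · show _ = (0 : F)
    linear_combination (B : Matrix (Fin 2) (Fin 2) F) 0 1 * hab +
      (B : Matrix (Fin 2) (Fin 2) F) 0 1 * (B : Matrix (Fin 2) (Fin 2) F) 1 1 * h2
  · show _ = (0 : F)
    linear_combination (B : Matrix (Fin 2) (Fin 2) F) 1 0 * hab +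
      (B : Matrix (Fin 2) (Fin 2) F) 1 0 * (B : Matrix (Fin 2) (Fin 2) F) 1 1 * h2
  · show _ = (1 : F)
    linear_combination hdB - (B : Matrix (Fin 2) (Fin 2) F) 1 1 * hab +
      (B : Matrix (Fin 2) (Fin 2) F) 0 1 * (B : Matrix (Fin 2) (Fin 2) F) 1 0 * h2

theorem commute_of_odd_two {y x : G} {k : ℕ} (hy : orderOf y = 2 ^ k) (hx : Odd (orderOf x))
    (h1 : x * y * x⁻¹ ∈ zpowers y) (h2 : y * x * y⁻¹ ∈ zpowers x) : Commute x y := by
  set c := x * y * x⁻¹ * y⁻¹ with hc
  have hcy : c ∈ zpowers y := mul_mem h1 (inv_mem (mem_zpowers y))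
  have hcx : c ∈ zpowers x := by
    rw [show c = x * (y * x * y⁻¹)⁻¹ by rw [hc]; group]
    exact mul_mem (mem_zpowers x) (inv_mem h2)
  have hcop : Nat.Coprime (orderOf y) (orderOf x) := by
    rw [hy]; exact (Nat.coprime_two_left.mpr hx).pow_left _
  have hc1 : c = 1 := orderOf_eq_one_iff.mp (Nat.dvd_one.mp (hcop ▸
    Nat.dvd_gcd (orderOf_dvd_of_mem_zpowers hcy) (orderOf_dvd_of_mem_zpowers hcx)))
  rw [hc, mul_inv_eq_one, mul_inv_eq_iff_eq_mul] at hc1
  exact hc1

theorem exists_four {P : Subgroup G} (hP : IsPGroup 2 P) {y : G} (hy : y ∈ P) (hbig : y * y ≠ 1) :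
    ∃ z ∈ zpowers y, orderOf z = 4 ∧ iota y = z * z := by
  obtain ⟨k, hk⟩ := even_orderOf_of_mem hP hy (fun h => hbig (by rw [h, one_mul]))
  obtain ⟨k, rfl⟩ : ∃ k', k = k' + 1 := by
    refine ⟨k - 1, (Nat.succ_pred_eq_of_ne_zero fun h => hbig ?_).symm⟩
    rw [h, zero_add, pow_one] at hk
    exact mul_self_eq_one hk
  have h4 : orderOf (y ^ 2 ^ k) = 4 := by
    rw [orderOf_pow_of_dvd (by positivity) (hk ▸ pow_dvd_pow 2 (by omega)), hk,
      Nat.pow_div (by omega) two_pos, show k + 1 + 1 - k = 2 by omega]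
    rfl
  refine ⟨_, npow_mem_zpowers _ _, h4, ?_⟩
  rw [← iota_four h4]
  exact (iota_of_mem_zpowers (npow_mem_zpowers _ _) (by rw [h4]; decide)).symm

/-- A group without solvable normal subgroups and with abelian centralisers of involutions. -/
theorem sl2_of_abelian_cent [Nontrivial G] (hn : NoSolv G)
    (h : ∀ t : G, orderOf t = 2 → IsMulCommutative ↥(centralizer ({t} : Set G))) :
    ∃ (F : Type) (_ : Field F) (_ : Fintype F), CharP F 2 ∧
      Nonempty (G ≃* Matrix.SpecialLinearGroup (Fin 2) F) := by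
  haveI : Fact (Nat.Prime 2) := ⟨Nat.prime_two⟩
  obtain ⟨t, ht⟩ := exists_involution hn
  obtain ⟨P, hP⟩ := exists_sylow_mem ht
  rcases Cfsg.Agent.S2202.result (even_card hn) h with hc | hc |
    ⟨F, iF, iFt, A, iA, iAf, hch, -, ⟨e⟩⟩
  · exfalso
    haveI := hc P
    obtain ⟨c, hc'⟩ := IsCyclic.exists_generator (α := (P : Subgroup G))
    have key : ∀ s : G, s ∈ (P : Subgroup G) → orderOf s = 2 → s = iota (c : G) := fun s hs hs2 => by
      obtain ⟨j, hj⟩ := mem_zpowers_iff.mp (hc' ⟨s, hs⟩)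
      refine eq_iota (mem_zpowers_iff.mpr ⟨j, ?_⟩) hs2
      rw [← Subgroup.coe_zpow, hj]
    refine isolated_false hn P ht hP fun g hg => ?_
    rw [key _ hg (by rw [orderOf_conj_eq, ht]), key t hP ht]
  · exfalso
    have := hn _ (hc P) (by haveI := P.2.isNilpotent; infer_instance)
    rw [this, Subgroup.mem_bot] at hP
    exact ne_one_of_two ht hP
  · refine ⟨F, iF, iFt, hch, ?_⟩
    set f : A →* G := e.symm.toMonoidHom.comp (MonoidHom.inr _ A)
    have hf : Function.Injective f := fun a b hab => by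
      have := e.symm.injective hab
      exact (Prod.mk.inj this).2
    have hnormal : f.range.Normal := by
      refine ⟨fun x hx g => ?_⟩
      obtain ⟨a, rfl⟩ := hx
      refine ⟨a, e.injective ?_⟩
      show e (e.symm ((1 : Matrix.SpecialLinearGroup (Fin 2) F), a)) =
        e (g * e.symm ((1 : Matrix.SpecialLinearGroup (Fin 2) F), a) * g⁻¹)
      rw [map_mul, map_mul, map_inv, e.apply_symm_apply]
      refine Prod.ext ?_ ?_
      · simp
      · simp [mul_comm]
    have hbot := hn _ hnormal (Group.isSolvable_of_comm (by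
      rintro ⟨_, a, rfl⟩ ⟨_, b, rfl⟩
      exact Subtype.ext (by show f a * f b = f b * f a; rw [← map_mul, mul_comm, map_mul])))
    have hsub : ∀ a : A, a = 1 := fun a => hf (by
      rw [map_one]; exact Subgroup.mem_bot.mp (hbot ▸ ⟨a, rfl⟩ : f a ∈ (⊥ : Subgroup G)))
    refine ⟨e.trans ⟨⟨Prod.fst, fun s => (s, 1), fun p => ?_, fun s => rfl⟩, fun p q => rfl⟩⟩
    exact Prod.ext rfl (hsub p.2).symm

theorem psl_of_abelian_cent [Nontrivial G] (hn : NoSolv G)
    (h : ∀ t : G, orderOf t = 2 → IsMulCommutative ↥(centralizer ({t} : Set G))) :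
    ∃ (F : Type) (_ : Field F) (_ : Fintype F), 3 < Fintype.card F ∧
      Nonempty (G ≃* Matrix.ProjectiveSpecialLinearGroup (Fin 2) F) := by
  haveI : Fact (Nat.Prime 2) := ⟨Nat.prime_two⟩
  haveI : Fact (Nat.Prime 3) := ⟨Nat.prime_three⟩
  obtain ⟨F, iF, iFt, hch, ⟨e⟩⟩ := sl2_of_abelian_cent hn h
  have hcen : Subgroup.center (Matrix.SpecialLinearGroup (Fin 2) F) = ⊥ := by
    rw [eq_bot_iff]
    intro A hA
    obtain ⟨r, hr, hrA⟩ := Matrix.SpecialLinearGroup.mem_center_iff.mp hA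
    have h2 : (r + 1) ^ 2 = 0 := by
      rw [Fintype.card_fin] at hr
      rw [CharTwo.add_sq, hr, one_pow, CharTwo.add_self_eq_zero]
    have hr1 : r = 1 := CharTwo.add_eq_zero.mp (pow_eq_zero_iff two_ne_zero |>.mp h2)
    rw [Subgroup.mem_bot]
    refine Subtype.ext ?_
    rw [← hrA, hr1, map_one]
    rfl
  have hF : 3 < Fintype.card F := by
    by_contra hle
    obtain ⟨n, -, hn'⟩ := FiniteField.card F 2
    have hn1 : (n : ℕ) = 1 := by
      by_contra hne
      have h4 : (2 : ℕ) ^ 2 ≤ 2 ^ (n : ℕ) :=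
        Nat.pow_le_pow_right two_pos (by have := n.2; have : 0 < (n : ℕ) := n.pos; omega)
      rw [← hn'] at h4
      norm_num at h4
      omega
    rw [hn1, pow_one] at hn'
    have hle6 : Nat.card G ≤ 6 := by
      rw [Nat.card_congr e.toEquiv]
      refine (Nat.card_le_card_of_injective _
        (Matrix.SpecialLinearGroup.toGL_injective (n := Fin 2) (R := F))).trans ?_
      rw [Matrix.card_GL_field 2, Fin.prod_univ_two, hn']
      norm_num
    have hev := even_card hn
    by_cases h3 : 3 ∣ Nat.card G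
    · obtain ⟨c, hc⟩ := exists_prime_orderOf_dvd_card' 3 h3
      have h6 : Nat.card G = 6 := by
        obtain ⟨j, hj⟩ := h3
        obtain ⟨i, hi⟩ := hev.two_dvd
        have := Nat.card_pos (α := G)
        omega
      have hidx : (zpowers c).index = 2 := by
        have := (zpowers c).card_mul_index
        rw [Nat.card_zpowers, hc, h6] at this
        omega
      have hz := hn _ (Subgroup.normal_of_index_eq_two hidx) inferInstance
      rw [Subgroup.zpowers_eq_bot.mp hz, orderOf_one] at hc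
      omega
    · obtain ⟨i, hi⟩ := hev.two_dvd
      have hpos := Nat.card_pos (α := G)
      have h24 : Nat.card G = 2 ∨ Nat.card G = 4 := by omega
      have hp : IsPGroup 2 G := by
        rcases h24 with h | h
        · exact IsPGroup.of_card (n := 1) h
        · exact IsPGroup.of_card (n := 2) h
      haveI := hp.isNilpotent
      exact top_ne_bot (hn ⊤ inferInstance inferInstance)
  exact ⟨F, iF, iFt, hF, ⟨e.trans
    ((QuotientGroup.quotientMulEquivOfEq hcen).trans QuotientGroup.quotientBot).symm⟩⟩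

section Alpha

variable (hG : Hyp G) (hn : NoSolv G)
  (hA : ∀ (S : Sylow 2 G) (w : G), orderOf w = 2 → w ∈ (S : Subgroup G) →
    ∀ p ∈ (S : Subgroup G), Commute p w)
include hG hn hA

theorem exists_other_iota (S : Sylow 2 G) {y : G} (hy : y ∈ (S : Subgroup G)) (hbig : y * y ≠ 1) :
    ∃ y' ∈ (S : Subgroup G), y' * y' ≠ 1 ∧ iota y' ≠ iota y := by
  by_contra hcon
  push Not at hcon
  set z := iota y
  have hye := even_of_mem S.2 hy (fun h => hbig (by rw [h, one_mul]))
  have hz : orderOf z = 2 := orderOf_iota hye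
  have hzS : z ∈ (S : Subgroup G) := zpowers_le.mpr hy (iota_mem y)
  refine isolated_false hn S hz hzS fun g hg => ?_
  set z' := g * z * g⁻¹
  obtain ⟨h, hh, hhS⟩ := conj_into S (centralizer ({z'} : Set G))
    (fun p hp => mem_cent_of_commute (hA S z' (by rw [orderOf_conj_eq, hz]) hg p hp))
    (P := (S : Subgroup G).map (MulAut.conj g).toMonoidHom) (S.2.map _) (by
      rintro _ ⟨p, hp, rfl⟩
      exact mem_cent_of_commute ((hA S z hz hzS p hp).map (MulAut.conj g)))
  have h1 : h * g * y * (h * g)⁻¹ ∈ (S : Subgroup G) := by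
    rw [show h * g * y * (h * g)⁻¹ = h * (g * y * g⁻¹) * h⁻¹ by group]
    exact hhS _ ⟨y, hy, rfl⟩
  have h2 : h * g * y * (h * g)⁻¹ * (h * g * y * (h * g)⁻¹) ≠ 1 := by
    rw [conj_mul, Ne, conj_eq_one_iff]; exact hbig
  have h3 := hcon _ h1 h2
  rw [iota_conj] at h3
  calc z' = h * z' * h⁻¹ := by rw [(commute_of_mem_cent hh).eq, mul_inv_cancel_right]
    _ = h * g * z * (h * g)⁻¹ := by simp only [z']; group
    _ = z := h3

theorem sylow_comm (S : Sylow 2 G) :
    ∀ p ∈ (S : Subgroup G), ∀ q ∈ (S : Subgroup G), Commute p q := by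
  haveI : Fact (Nat.Prime 2) := ⟨Nat.prime_two⟩
  have hsmall : ∀ z ∈ (S : Subgroup G), z * z = 1 → ∀ g ∈ (S : Subgroup G), Commute g z := by
    intro z hz h1 g hg
    by_cases hz1 : z = 1
    · rw [hz1]; exact Commute.one_right g
    · exact hA S z (orderOf_two h1 hz1) hz g hg
  have hnorm : ∀ z ∈ (S : Subgroup G), ∀ g ∈ (S : Subgroup G), g * z * g⁻¹ ∈ zpowers z := by
    intro z hz g hg
    by_cases h1 : z * z = 1
    · rw [(hsmall z hz h1 g hg).eq, mul_inv_cancel_right]; exact mem_zpowers z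
    · exact conj_mem_of_big hG S.2 hz h1 hg
  refine fun p hp q hq => commute_of_normalised (S : Subgroup G) (fun _ => True)
    (fun _ _ _ _ => trivial) (fun _ _ _ _ _ _ => trivial) (fun z hz _ g hg => hnorm z hz g hg)
    ?_ p hp q hq trivial trivial
  intro z hz _ h4 g hg _
  have hzb : z * z ≠ 1 := by
    rw [← pow_two, Ne, ← orderOf_dvd_iff_pow_eq_one, h4]; decide
  by_cases hgb : g * g = 1
  · exact (hsmall g hg hgb z hz)
  by_cases hne : iota g ≠ iota z
  · exact commute_of_iota_ne S.2 hz (hnorm g hg z hz) (hnorm z hz g hg) hne.symm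
  push Not at hne
  obtain ⟨y, hy, hyb, hyne⟩ := exists_other_iota hG hn hA S hz hzb
  obtain ⟨y', hy', hy'4, hyi⟩ := exists_four S.2 hy hyb
  have hyz : Commute y z := commute_of_iota_ne S.2 hy (hnorm z hz y hy) (hnorm y hy z hz) hyne
  have hyg : Commute y g := commute_of_iota_ne S.2 hy (hnorm g hg y hy) (hnorm y hy g hg)
    (by rw [hne]; exact hyne)
  obtain ⟨j, hj⟩ := mem_zpowers_iff.mp hy'
  have hy'z : Commute y' z := hj ▸ hyz.zpow_left j
  have hy'g : Commute y' g := hj ▸ hyg.zpow_left j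
  have hy'S : y' ∈ (S : Subgroup G) := zpowers_le.mpr hy hy'
  set q := z * y'
  have hqq : q * q = z * z * (y' * y') := Commute.mul_mul_mul_comm hy'z z y'
  have hiz : iota z = z * z := iota_four h4
  have hqb : q * q ≠ 1 := by
    rw [hqq]
    intro h
    refine hyne ?_
    rw [hyi, hiz, eq_inv_of_mul_eq_one_left h]
    exact (inv_eq_self' (by rw [← iota_four hy'4]; exact orderOf_iota (by rw [hy'4]; decide))).symm
  have hq4 : orderOf q = 4 := by
    refine orderOf_four hqb ?_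
    rw [hqq, Commute.mul_mul_mul_comm (((hy'z.mul_left hy'z).mul_right (hy'z.mul_left hy'z))),
      ← pow_two (z * z), ← pow_two (y' * y'), ← pow_two z, ← pow_two y', ← pow_mul, ← pow_mul,
      show 2 * 2 = orderOf z from h4.symm, pow_orderOf_eq_one, one_mul, h4,
      show 4 = orderOf y' from hy'4.symm, pow_orderOf_eq_one]
  have hqne : iota q ≠ iota g := by
    rw [hne, iota_four hq4, hqq, hiz, Ne, mul_eq_left, ← pow_two, ← orderOf_dvd_iff_pow_eq_one,
      hy'4]
    decide
  have hqS : q ∈ (S : Subgroup G) := mul_mem hz hy'S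
  have hqg : Commute q g := commute_of_iota_ne S.2 hqS (hnorm g hg q hqS) (hnorm q hqS g hg) hqne
  have := hqg.mul_left hy'g.inv_left
  rwa [mul_inv_cancel_right] at this

/-- A Sylow subgroup with a nonabelian centraliser of an involution on top is elementary. -/
theorem exponent_two {t x : G} (ht : orderOf t = 2) (S : Sylow 2 G)
    (hxt : Commute x t) (hxo : Odd (orderOf x)) (hSt : ∀ p ∈ (S : Subgroup G), Commute p t)
    {τ : G} (hτ : τ ∈ (S : Subgroup G)) (hnc : ¬ Commute x τ) :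
    (∀ y ∈ (S : Subgroup G), y * y = 1) ∧
      ∃ s ∈ (S : Subgroup G), orderOf s = 2 ∧ s * x * s⁻¹ = x⁻¹ := by
  haveI : Fact (Nat.Prime 2) := ⟨Nat.prime_two⟩
  have hcomm := sylow_comm hG hn hA S
  have hcy : ∀ y ∈ (S : Subgroup G), y * y ≠ 1 →
      centralizer ({iota y} : Set G) = centralizer ({t} : Set G) → Commute x y := by
    intro y hy hyb heq
    obtain ⟨k, hk⟩ := even_orderOf_of_mem S.2 hy (fun h => hyb (by rw [h, one_mul]))
    refine commute_of_odd_two hk hxo ?_ (conj_mem_of_odd hG ht hxt hxo (hSt y hy))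
    exact conj_mem_zpowers ((norm_even hG (even_of_mem S.2 hy
      (fun h => hyb (by rw [h, one_mul])))).symm ▸ heq.symm ▸ mem_cent_of_commute hxt)
  obtain ⟨s, hs, hs2, hsx⟩ : ∃ s ∈ (S : Subgroup G), orderOf s = 2 ∧ s * x * s⁻¹ = x⁻¹ := by
    by_cases hτb : τ * τ = 1
    · have hτ2 : orderOf τ = 2 := orderOf_two hτb fun h => hnc (h ▸ Commute.one_right x)
      exact ⟨τ, hτ, hτ2, (dichotomy hG ht hτ2 (hSt τ hτ)).resolve_left
        (fun h => hnc (commute_of_mem_cent (h.symm ▸ mem_cent_of_commute hxt))) x hxt hxo⟩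
    · have hi2 := orderOf_iota (even_of_mem S.2 hτ (fun h => hτb (by rw [h, one_mul])))
      have hiS : iota τ ∈ (S : Subgroup G) := zpowers_le.mpr hτ (iota_mem τ)
      exact ⟨iota τ, hiS, hi2, (dichotomy hG ht hi2 (hSt _ hiS)).resolve_left
        (fun h => hnc (hcy τ hτ hτb h)) x hxt hxo⟩
  refine ⟨fun y hy => ?_, s, hs, hs2, hsx⟩
  have hx1 : x ≠ 1 := fun h => hnc (h ▸ Commute.one_left τ)
  have hbad : ∀ y ∈ (S : Subgroup G), y * y ≠ 1 →
      centralizer ({iota y} : Set G) ≠ centralizer ({t} : Set G) := by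
    intro y hy hyb heq
    have hys : y * s ∈ (S : Subgroup G) := mul_mem hy hs
    have hsq : y * s * (y * s) = y * y := by
      rw [Commute.mul_mul_mul_comm (hcomm s hs y hy), mul_self_eq_one hs2, mul_one]
    obtain ⟨z, hz, hz4, hzi⟩ := exists_four S.2 hy hyb
    have hio : iota (y * s) = iota y := by
      obtain ⟨j, hj⟩ := mem_zpowers_iff.mp hz
      refine (eq_iota ?_ (orderOf_iota (even_of_mem S.2 hy (fun h => hyb (by rw [h, one_mul]))))).symm
      rw [hzi, ← hj, ← (Commute.refl y).mul_zpow, ← hsq]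
      exact zpow_mem (mul_mem (mem_zpowers _) (mem_zpowers _)) j
    have h1 := hcy _ hys (by rw [hsq]; exact hyb) (by rw [hio]; exact heq)
    have h2 := (hcy y hy hyb heq).inv_right.mul_right h1
    rw [inv_mul_cancel_left] at h2
    rw [h2.symm.eq, mul_inv_cancel_right] at hsx
    have hxx : x * x = 1 := by nth_rw 2 [hsx]; exact mul_inv_cancel x
    rw [orderOf_two hxx hx1] at hxo
    exact absurd hxo (by decide)
  by_contra hyb
  obtain ⟨y', hy', hy'b, hne⟩ := exists_other_iota hG hn hA S hy hyb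
  obtain ⟨z, hz, hz4, hzi⟩ := exists_four S.2 hy hyb
  obtain ⟨z', hz', hz'4, hz'i⟩ := exists_four S.2 hy' hy'b
  have hzS : z ∈ (S : Subgroup G) := zpowers_le.mpr hy hz
  have hz'S : z' ∈ (S : Subgroup G) := zpowers_le.mpr hy' hz'
  have hi : ∀ v ∈ (S : Subgroup G), v * v ≠ 1 → iota v * x * (iota v)⁻¹ = x⁻¹ := by
    intro v hv hvb
    have hv2 := orderOf_iota (even_of_mem S.2 hv (fun h => hvb (by rw [h, one_mul])))
    exact (dichotomy hG ht hv2 (hSt _ (zpowers_le.mpr hv (iota_mem v)))).resolve_left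
      (hbad v hv hvb) x hxt hxo
  set q := z * z'
  have hqq : q * q = iota y * iota y' := by
    rw [hzi, hz'i]; exact Commute.mul_mul_mul_comm (hcomm z' hz'S z hzS) z z'
  have hiy' := orderOf_iota (even_of_mem S.2 hy' (fun h => hy'b (by rw [h, one_mul])))
  have hiy := orderOf_iota (even_of_mem S.2 hy (fun h => hyb (by rw [h, one_mul])))
  have hqb : q * q ≠ 1 := by
    rw [hqq]
    intro h
    exact hne (by rw [eq_inv_of_mul_eq_one_left h, inv_eq_self' hiy'])
  have hq4 : orderOf q = 4 := by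
    refine orderOf_four hqb ?_
    rw [hqq, Commute.mul_mul_mul_comm (hcomm _ (zpowers_le.mpr hy' (iota_mem y')) _
      (zpowers_le.mpr hy (iota_mem y))), mul_self_eq_one hiy, mul_self_eq_one hiy', one_mul]
  refine hbad q (mul_mem hzS hz'S) hqb ?_
  rw [iota_four hq4]
  have hqS : q * q ∈ (S : Subgroup G) := mul_mem (mul_mem hzS hz'S) (mul_mem hzS hz'S)
  have hq2 : orderOf (q * q) = 2 := by
    rw [← iota_four hq4]; exact orderOf_iota (by rw [hq4]; decide)
  refine cent_eq_of_odd hG ht hq2 hxt ?_ hxo hx1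
  have h1 : q * q * x * (q * q)⁻¹ = x := by
    rw [hqq, show iota y * iota y' * x * (iota y * iota y')⁻¹ =
      iota y * (iota y' * x * (iota y')⁻¹) * (iota y)⁻¹ by group, hi y' hy' hy'b, ← conj_inv,
      hi y hy hyb, inv_inv]
  exact (mul_inv_eq_iff_eq_mul.mp h1).symm

theorem abelian_case [Nontrivial G] :
    (∃ (F : Type) (_ : Field F) (_ : Fintype F), 3 < Fintype.card F ∧
      Nonempty (G ≃* Matrix.ProjectiveSpecialLinearGroup (Fin 2) F)) ∨ DihCase G := by
  haveI : Fact (Nat.Prime 2) := ⟨Nat.prime_two⟩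
  by_cases hab : ∀ t : G, orderOf t = 2 → IsMulCommutative ↥(centralizer ({t} : Set G))
  · exact Or.inl (psl_of_abelian_cent hn hab)
  right
  push Not at hab
  obtain ⟨t, ht, htc⟩ := hab
  obtain ⟨S, htS⟩ := exists_sylow_mem ht
  have hSt : ∀ p ∈ (S : Subgroup G), Commute p t := hA S t ht htS
  have hScomm := sylow_comm hG hn hA S
  obtain ⟨x, hxt, hxo, τ, hτ, hnc⟩ : ∃ x, Commute x t ∧ Odd (orderOf x) ∧
      ∃ τ ∈ (S : Subgroup G), ¬ Commute x τ := by
    by_contra hcon
    push Not at hcon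
    refine htc ⟨⟨fun a b => Subtype.ext ?_⟩⟩
    obtain ⟨o, ho, s, hs, ha⟩ := decomp hG ht S hSt (commute_of_mem_cent a.2)
    obtain ⟨o', ho', s', hs', hb⟩ := decomp hG ht S hSt (commute_of_mem_cent b.2)
    show (a : G) * b = b * a
    rw [ha, hb]
    exact (((odd_commute hG ht ho.1 ho'.1 ho.2 ho'.2).mul_right (hcon o ho.1 ho.2 s' hs')).mul_left
      ((hcon o' ho'.1 ho'.2 s hs).symm.mul_right (hScomm s hs s' hs'))).eq
  obtain ⟨hexp, s, hs, hs2, hsx⟩ := exponent_two hG hn hA ht S hxt hxo hSt hτ hnc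
  have hx1 : x ≠ 1 := fun h => hnc (h ▸ Commute.one_left τ)
  set K : Subgroup G := (S : Subgroup G) ⊓ centralizer (oddSub hG ht : Set G) with hK
  have hKS : K ≤ (S : Subgroup G) := inf_le_left
  have hKc : ∀ {v : G}, v ∈ K → ∀ o, Commute o t → Odd (orderOf o) → Commute o v :=
    fun hv o ho ho' => mem_centralizer_iff.mp hv.2 o ⟨ho, ho'⟩
  have hKeq : ∀ v ∈ K, v ≠ 1 → centralizer ({v} : Set G) = centralizer ({t} : Set G) := fun v hv hv1 =>
    cent_eq_of_odd hG ht (orderOf_two (hexp v (hKS hv)) hv1) hxt (hKc hv x hxt hxo) hxo hx1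
  have htK : t ∈ K := ⟨htS, mem_centralizer_iff.mpr fun o ho => ho.1.eq⟩
  have hout : ∀ v ∈ (S : Subgroup G), v ∉ K → orderOf v = 2 ∧
      ∀ o, Commute o t → Odd (orderOf o) → v * o * v⁻¹ = o⁻¹ := by
    intro v hv hvK
    have hv1 : v ≠ 1 := fun h => hvK (h ▸ one_mem _)
    have hv2 := orderOf_two (hexp v hv) hv1
    refine ⟨hv2, (dichotomy hG ht hv2 (hSt v hv)).resolve_left fun h => hvK ⟨hv, ?_⟩⟩
    exact mem_centralizer_iff.mpr fun o ho =>
      (commute_of_mem_cent (h.symm ▸ mem_cent_of_commute ho.1)).eq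
  have hnotcomm : ∀ v : G, v * x * v⁻¹ = x⁻¹ → ¬ Commute x v := by
    intro v hvx hc
    rw [hc.symm.eq, mul_inv_cancel_right] at hvx
    have hxx : x * x = 1 := by nth_rw 2 [hvx]; exact mul_inv_cancel x
    rw [orderOf_two hxx hx1] at hxo
    exact absurd hxo (by decide)
  have hsK : s ∉ K := fun h => hnotcomm s hsx (hKc h x hxt hxo)
  have hmul : ∀ u ∈ (S : Subgroup G), ∀ v ∈ (S : Subgroup G), u ∉ K → v ∉ K → u * v ∈ K := by
    intro u hu v hv huK hvK
    refine ⟨mul_mem hu hv, mem_centralizer_iff.mpr fun o ho => ?_⟩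
    have h1 : u * v * o * (u * v)⁻¹ = o := by
      rw [show u * v * o * (u * v)⁻¹ = u * (v * o * v⁻¹) * u⁻¹ by group,
        (hout v hv hvK).2 o ho.1 ho.2, ← conj_inv, (hout u hu huK).2 o ho.1 ho.2, inv_inv]
    exact (mul_inv_eq_iff_eq_mul.mp h1).symm
  by_cases hsmall : ∀ v ∈ K, v = 1 ∨ v = t
  · -- four-group
    obtain ⟨g, hgS, hgt⟩ : ∃ g : G, g * t * g⁻¹ ∈ (S : Subgroup G) ∧ g * t * g⁻¹ ≠ t := by
      by_contra h
      push Not at h
      exact isolated_false hn S ht htS h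
    set w := g * t * g⁻¹ with hw
    have hw2 : orderOf w = 2 := by rw [hw, orderOf_conj_eq, ht]
    have hwK : w ∉ K := fun h => (hsmall w h).elim (ne_one_of_two hw2) hgt
    have hKz : ∀ v ∈ K, v ∈ zpowers t := fun v hv => (hsmall v hv).elim
      (fun h => h ▸ one_mem _) (fun h => h ▸ mem_zpowers t)
    have hzK : zpowers t ≤ K := zpowers_le.mpr htK
    have hit : iota t = t := iota_eq_self ht
    have D : Dih t w := by
      refine ⟨⟨0, by rw [ht]; rfl⟩, hw2, ?_, fun h => hwK (hzK h), ?_, ?_⟩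
      · rw [inv_eq_self' ht, (hSt w hgS).eq, mul_inv_cancel_right]
      · rw [hit]; exact (hout w hgS hwK).2
      · rw [hit]
        intro h hh
        obtain ⟨o, ho, p, hp, rfl⟩ := decomp hG ht S hSt hh
        refine ⟨o, p, ho.1, ho.2, ?_, rfl⟩
        by_cases hpK : p ∈ K
        · exact Or.inl (hKz p hpK)
        · exact Or.inr (hKz _ (hmul w hgS p hp hwK hpK))
    refine ⟨t, w, D, S, ?_, ?_⟩
    · ext p
      rw [mem_twoSub]
      constructor
      · intro hp
        by_cases hpK : p ∈ K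
        · exact Or.inl (hKz p hpK)
        · exact Or.inr (hKz _ (hmul w hgS p hp hwK hpK))
      · rintro (hp | hp)
        · exact hKS (hzK hp)
        · have := mul_mem hgS (hKS (hzK hp))
          rwa [← mul_assoc, mul_self_eq_one hw2, one_mul] at this
    · rw [hit]; exact (isConj_iff.mpr ⟨g, rfl⟩ : IsConj t w).symm
  exfalso
  push Not at hsmall
  obtain ⟨k, hkK, hk1, hkt⟩ := hsmall
  have hKi : K.relIndex (S : Subgroup G) = 2 := by
    rw [Subgroup.relIndex, Subgroup.index_eq_two_iff]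
    refine ⟨⟨s, hs⟩, fun b => ?_⟩
    by_cases hb : (b : G) ∈ K
    · refine Or.inr ⟨hb, fun h => hsK ?_⟩
      have := mul_mem (inv_mem hb) (show (b : G) * s ∈ K from h)
      rwa [inv_mul_cancel_left] at this
    · exact Or.inl ⟨hmul b b.2 s hs hb hsK, hb⟩
  have hcard : 2 * 2 < Nat.card K * 2 := by
    have : 2 < Nat.card K := by
      classical
      haveI := Fintype.ofFinite K
      rw [Nat.card_eq_fintype_card]
      refine Fintype.two_lt_card_iff.mpr
        ⟨⟨1, one_mem K⟩, ⟨t, htK⟩, ⟨k, hkK⟩, ?_, ?_, ?_⟩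
      · exact fun h => ne_one_of_two ht (congrArg Subtype.val h).symm
      · exact fun h => hk1 (congrArg Subtype.val h).symm
      · exact fun h => hkt (congrArg Subtype.val h).symm
    omega
  have hnoK : ∀ u ∈ (S : Subgroup G), u ∉ K → ∀ g : G, g * u * g⁻¹ ∉ K := by
    intro u hu huK g hgK
    set j := g * u * g⁻¹
    have hu2 := (hout u hu huK).1
    have hj2 : orderOf j = 2 := by rw [orderOf_conj_eq, hu2]
    have hjc := hKeq j hgK (ne_one_of_two hj2)
    set K' : Subgroup G := K.map (MulAut.conj g⁻¹).toMonoidHom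
    have hK'S : K' ≤ (S : Subgroup G) := by
      rintro _ ⟨v, hv, rfl⟩
      show g⁻¹ * v * g⁻¹⁻¹ ∈ (S : Subgroup G)
      by_cases hv1 : v = 1
      · simp [hv1]
      refine mem_sylow_of_commute S (k := 1)
        (by rw [orderOf_conj_eq, orderOf_two (hexp v (hKS hv)) hv1, pow_one]) fun p hp => ?_
      have h1 : Commute (g * p * g⁻¹) v := commute_of_mem_cent
        ((hKeq v hv hv1).symm ▸ hjc ▸ mem_cent_of_commute ((hScomm p hp u hu).map (MulAut.conj g)))
      have h2 := h1.map (MulAut.conj g⁻¹)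
      rw [MulAut.conj_apply, MulAut.conj_apply,
        show g⁻¹ * (g * p * g⁻¹) * g⁻¹⁻¹ = p by group] at h2
      exact h2
    obtain ⟨j', hj'K, hj'K', hj'1⟩ : ∃ j' ∈ K, j' ∈ K' ∧ j' ≠ 1 := by
      by_contra h
      push Not at h
      have hle : Nat.card K * Nat.card K' ≤ Nat.card (S : Subgroup G) := by
        rw [← Nat.card_prod]
        refine Nat.card_le_card_of_injective
          (fun p => (⟨(p.1 : G) * p.2, mul_mem (hKS p.1.2) (hK'S p.2.2)⟩ : (S : Subgroup G))) ?_
        rintro ⟨a, b⟩ ⟨a', b'⟩ he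
        have he' : (a : G) * b = a' * b' := congrArg Subtype.val he
        have h1 : (a' : G)⁻¹ * a = b' * (b : G)⁻¹ := by
          rw [eq_mul_inv_iff_mul_eq, mul_assoc, he', inv_mul_cancel_left]
        have h2 := h _ (mul_mem (inv_mem a'.2) a.2) (h1 ▸ mul_mem b'.2 (inv_mem b.2))
        refine Prod.ext (Subtype.ext ?_) (Subtype.ext ?_)
        · exact (inv_mul_eq_one.mp h2).symm
        · exact (mul_inv_eq_one.mp (h1.symm.trans h2)).symm
      have hcK' : Nat.card K' = Nat.card K :=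
        Subgroup.card_map_of_injective (MulAut.conj g⁻¹).injective
      have hS := Solvable.card_mul_relIndex hKS
      rw [hKi] at hS
      rw [hcK', ← hS] at hle
      have := Nat.le_of_mul_le_mul_left hle Nat.card_pos
      omega
    obtain ⟨v, hv, rfl⟩ := hj'K'
    change g⁻¹ * v * g⁻¹⁻¹ ∈ K at hj'K
    change g⁻¹ * v * g⁻¹⁻¹ ≠ 1 at hj'1
    have hv1 : v ≠ 1 := fun h => hj'1 (by rw [h]; group)
    have h1 : Commute x (g⁻¹ * v * g⁻¹⁻¹) := hKc hj'K x hxt hxo
    have h2 : Commute (g * x * g⁻¹) v := by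
      have := h1.map (MulAut.conj g)
      rw [MulAut.conj_apply, MulAut.conj_apply,
        show g * (g⁻¹ * v * g⁻¹⁻¹) * g⁻¹ = v by group] at this
      exact this
    have h3 : Commute (g * x * g⁻¹) j :=
      commute_of_mem_cent (hjc.symm ▸ (hKeq v hv hv1) ▸ mem_cent_of_commute h2)
    have h4 := h3.map (MulAut.conj g⁻¹)
    rw [MulAut.conj_apply, MulAut.conj_apply, show g⁻¹ * (g * x * g⁻¹) * g⁻¹⁻¹ = x by group,
      show g⁻¹ * j * g⁻¹⁻¹ = u by simp only [j]; group] at h4
    exact hnotcomm u ((hout u hu huK).2 x hxt hxo) h4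
  -- the intersection of the subgroups of index two
  set R : Subgroup G := sInf {N : Subgroup G | N.Normal ∧ N.index = 2} with hR
  haveI hRn : R.Normal := ⟨fun r hr g => by
    rw [hR, Subgroup.mem_sInf] at hr ⊢
    exact fun N hN => hN.1.conj_mem r (hr N hN) g⟩
  have hRS : ∀ v ∈ (S : Subgroup G), v ∈ R → v ∈ K := by
    intro v hv hvR
    by_contra hvK
    obtain ⟨M, h1, h2, h3⟩ := Involution.thompson_transfer S K hKS hKi
      (mul_self_eq_one (hout v hv hvK).1) (hnoK v hv hvK)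
    rw [hR, Subgroup.mem_sInf] at hvR
    exact h3 (hvR M ⟨h1, h2⟩)
  have hoR : ∀ o : G, Odd (orderOf o) → o ∈ R := by
    intro o ho
    rw [hR, Subgroup.mem_sInf]
    intro N hN
    obtain ⟨j, hj⟩ : 2 ∣ orderOf o + 1 := (ho.add_odd odd_one).two_dvd
    have e : o = (o * o) ^ j := by
      rw [← pow_two, ← pow_mul, ← hj, pow_succ, pow_orderOf_eq_one, one_mul]
    rw [e]
    exact pow_mem ((Subgroup.mul_mem_iff_of_index_two hN.2).mpr Iff.rfl) j
  haveI : Nontrivial R := (Subgroup.nontrivial_iff_exists_ne_one R).mpr ⟨x, hoR x hxo, hx1⟩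
  have hconjK : ∀ v : G, v ∈ R → orderOf v = 2 → ∃ g : G, g * v * g⁻¹ ∈ K := by
    intro v hvR hv2
    obtain ⟨g, -, hg⟩ := conj_into S ⊤ le_top (isPGroup_zpowers (k := 1) (by rw [hv2, pow_one]))
      le_top
    exact ⟨g, hRS _ (hg v (mem_zpowers v)) (hRn.conj_mem v hvR g)⟩
  have habR : ∀ v : R, orderOf v = 2 → IsMulCommutative ↥(centralizer ({v} : Set R)) := by
    intro v hv
    obtain ⟨g, hg⟩ := hconjK v v.2 (by rwa [Subgroup.orderOf_coe])
    have hg1 : g * (v : G) * g⁻¹ ≠ 1 := ne_one_of_two (by rw [orderOf_conj_eq, Subgroup.orderOf_coe, hv])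
    have key : ∀ a : R, Commute a v → ∃ o p : G, Commute o t ∧ Odd (orderOf o) ∧ p ∈ K ∧
        g * (a : G) * g⁻¹ = o * p := by
      intro a ha
      have h1 : Commute (g * (a : G) * g⁻¹) t := commute_of_mem_cent ((hKeq _ hg hg1) ▸
        mem_cent_of_commute ((ha.map R.subtype).map (MulAut.conj g)))
      obtain ⟨o, ho, p, hp, he⟩ := decomp hG ht S hSt h1
      refine ⟨o, p, ho.1, ho.2, hRS p hp ?_, he⟩
      have := mul_mem (inv_mem (hoR o ho.2)) (he ▸ hRn.conj_mem _ a.2 g)
      rwa [inv_mul_cancel_left] at this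
    refine ⟨⟨fun a b => Subtype.ext (Subtype.ext ?_)⟩⟩
    obtain ⟨o, p, ho, ho', hp, ha⟩ := key a (commute_of_mem_cent a.2)
    obtain ⟨o', p', hq, hq', hp', hb⟩ := key b (commute_of_mem_cent b.2)
    have hc : Commute (o * p) (o' * p') :=
      ((odd_commute hG ht ho hq ho' hq').mul_right (hKc hp' o ho ho')).mul_left
        ((hKc hp o' hq hq').symm.mul_right (hScomm p (hKS hp) p' (hKS hp')))
    rw [← ha, ← hb] at hc
    have := hc.map (MulAut.conj g⁻¹)
    simp only [MulAut.conj_apply] at this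
    rw [show g⁻¹ * (g * ((a : R) : G) * g⁻¹) * g⁻¹⁻¹ = ((a : R) : G) by group,
      show g⁻¹ * (g * ((b : R) : G) * g⁻¹) * g⁻¹⁻¹ = ((b : R) : G) by group] at this
    exact this.eq
  obtain ⟨F, iF, iFt, hch, ⟨e⟩⟩ := sl2_of_abelian_cent (hn.normal R) habR
  obtain ⟨v, hv⟩ := exists_involution (hn.normal R)
  obtain ⟨g, hg⟩ := hconjK v v.2 (by rwa [Subgroup.orderOf_coe])
  set A : R := ⟨g * v * g⁻¹, hRn.conj_mem _ v.2 g⟩
  have hA2 : orderOf A = 2 := by
    rw [← Subgroup.orderOf_coe]; show orderOf (g * (v : G) * g⁻¹) = 2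
    rw [orderOf_conj_eq, Subgroup.orderOf_coe, hv]
  set X : R := ⟨x, hoR x hxo⟩
  have hXA : X * A = A * X := Subtype.ext (hKc hg x hxt hxo).eq
  haveI := hch
  have h1 := sl2_sq_eq_one (A := e A) (B := e X) (by rw [← map_mul, mul_self_eq_one hA2, map_one])
    (fun h => ne_one_of_two hA2 (e.injective (h.trans (map_one e).symm)))
    (by rw [← map_mul, ← map_mul, hXA])
  rw [← map_mul] at h1
  have h2 := congrArg Subtype.val (e.injective (h1.trans (map_one e).symm))
  change x * x = 1 at h2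
  rw [orderOf_two h2 hx1] at hxo
  exact absurd hxo (by decide)

end Alpha

end Cfsg.Agent.Normalisers5
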