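import Mathlib

/-!
# Groups in which even cyclic subgroups have the same normaliser as their nontrivial subgroups

The first consequences: centralisers of involutions normalise many cyclic subgroups, and elements of
odd order centralising a common involution commute.
-/

set_option autoImplicit false

namespace Cfsg.Agent.Normalisers5

open Subgroup

variable {G : Type*} [Group G]

/-- The hypothesis. -/
def Hyp (G : Type*) [Group G] : Prop :=
  ∀ X : Subgroup G, IsCyclic ↥X → Even (Nat.card ↥X) → ∀ Y : Subgroup G, Y ≤ X → Y ≠ ⊥ →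
    Subgroup.normalizer (X : Set G) = Subgroup.normalizer (Y : Set G)

theorem mem_cent {g t : G} : g ∈ centralizer ({t} : Set G) ↔ g * t = t * g :=
  mem_centralizer_singleton_iff

theorem conj_mem_zpowers {g y : G} (hg : g ∈ normalizer (zpowers y : Set G)) :
    g * y * g⁻¹ ∈ zpowers y :=
  (Subgroup.mem_normalizer_iff.mp hg y).mp (mem_zpowers y)

theorem comm_pow_mul_pow {a b d : G} (hda : Commute d a) (hdb : Commute d b)
    (hba : b * a = d * (a * b)) : ∀ n : ℕ, (a * b) ^ n = a ^ n * b ^ n * d ^ n.choose 2 := by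
  have hbn : ∀ n : ℕ, b ^ n * a = d ^ n * (a * b ^ n) := by
    intro n
    induction n with
    | zero => simp
    | succ n ih =>
      calc b ^ (n + 1) * a = b ^ n * (b * a) := by rw [pow_succ, mul_assoc]
        _ = b ^ n * (d * (a * b)) := by rw [hba]
        _ = d * (b ^ n * a) * b := by
          rw [← mul_assoc, ← (hdb.pow_right n).eq]; simp only [mul_assoc]
        _ = d * (d ^ n * (a * b ^ n)) * b := by rw [ih]
        _ = _ := by rw [pow_succ' d, pow_succ b]; simp only [mul_assoc]
  intro n
  induction n with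
  | zero => simp
  | succ n ih =>
    have hc : Commute (d ^ n.choose 2) (a * b) := (hda.mul_right hdb).pow_left _
    calc (a * b) ^ (n + 1) = a ^ n * b ^ n * (d ^ n.choose 2 * (a * b)) := by
          rw [pow_succ, ih, mul_assoc]
      _ = a ^ n * (b ^ n * a) * b * d ^ n.choose 2 := by rw [hc.eq]; simp only [mul_assoc]
      _ = a ^ n * (d ^ n * (a * b ^ n)) * b * d ^ n.choose 2 := by rw [hbn]
      _ = a ^ (n + 1) * b ^ (n + 1) * (d ^ n * d ^ n.choose 2) := by
          have h1 : Commute (d ^ n) (a * (b ^ n * b)) :=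
            (hda.pow_left n).mul_right (((hdb.pow_left n).pow_right n).mul_right (hdb.pow_left n))
          calc _ = a ^ n * (d ^ n * (a * (b ^ n * b))) * d ^ n.choose 2 := by
                simp only [mul_assoc]
            _ = _ := by rw [h1.eq, pow_succ, pow_succ]; simp only [mul_assoc]
      _ = _ := by rw [← pow_add, Nat.choose_succ_succ, Nat.choose_one_right]

variable [Finite G]

/-- Elements of a subgroup `L` in which cyclic subgroups with a property `P` are normal commute,
when the elements of order four among them are central in `L`. -/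
theorem commute_of_normalised (L : Subgroup G) (P : G → Prop)
    (hP : ∀ z ∈ L, P z → ∀ n : ℕ, P (z ^ n))
    (hPmul : ∀ a ∈ L, ∀ b ∈ L, P a → P b → P (a * b))
    (hnorm : ∀ z ∈ L, P z → ∀ g ∈ L, g * z * g⁻¹ ∈ zpowers z)
    (h4 : ∀ z ∈ L, P z → orderOf z = 4 → ∀ g ∈ L, P g → Commute z g) :
    ∀ x ∈ L, ∀ y ∈ L, P x → P y → Commute x y := by
  suffices h : ∀ (N : ℕ) (x y : G), orderOf x + orderOf y ≤ N → x ∈ L → y ∈ L → P x → P y →
      Commute x y from fun x hx y hy => h _ x y le_rfl hx hy
  intro N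
  induction N with
  | zero => intro x y h; have := orderOf_pos x; omega
  | succ N ih =>
    suffices hw : ∀ x y : G, orderOf y ≤ orderOf x → orderOf x + orderOf y ≤ N + 1 → x ∈ L →
        y ∈ L → P x → P y → Commute x y by
      intro x y hN hx hy hPx hPy
      rcases le_total (orderOf y) (orderOf x) with h | h
      · exact hw x y h hN hx hy hPx hPy
      · exact (hw y x h (by omega) hy hx hPy hPx).symm
    intro x y hle hN hx hy hPx hPy
    -- the commutator
    have hconjx : y * x * y⁻¹ ∈ zpowers x := hnorm x hx hPx y hy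
    have hconjy : x * y * x⁻¹ ∈ zpowers y := hnorm y hy hPy x hx
    by_cases hy1 : y = 1
    · rw [hy1]; exact Commute.one_right x
    have hsmall : ∀ x' y' : G, orderOf x' + orderOf y' ≤ N → x' ∈ L → y' ∈ L → P x' → P y' →
        Commute x' y' := ih
    have hdiv : ∀ {z : G}, ∀ d : ℕ, d ∣ orderOf z → 1 < d → orderOf (z ^ d) < orderOf z := by
      intro z d hd h1
      rw [orderOf_pow_of_dvd (by omega) hd]
      exact Nat.div_lt_self (orderOf_pos z) h1
    -- orders are powers of one prime
    by_cases hpp : IsPrimePow (orderOf x)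
    swap
    · have h1 : orderOf x ≠ 1 := by
        intro h1; rw [h1] at hle; exact hy1 (orderOf_eq_one_iff.mp (by have := orderOf_pos y; omega))
      obtain ⟨p, hp, hpd⟩ := Nat.exists_prime_and_dvd h1
      set a := p ^ (orderOf x).factorization p with ha
      set b := orderOf x / a with hb
      have hab : a * b = orderOf x := Nat.mul_div_cancel' (Nat.ordProj_dvd _ _)
      have hcop : Nat.Coprime a b :=
        Nat.Coprime.pow_left _ (Nat.coprime_ordCompl hp (orderOf_pos x).ne')
      have ha1 : 1 < a := Nat.one_lt_pow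
        (hp.factorization_pos_of_dvd (orderOf_pos x).ne' hpd).ne' hp.one_lt
      have hb1 : 1 < b := by
        by_contra hb1
        have hb0 : b ≠ 0 := fun h0 => by rw [h0, mul_zero] at hab; exact (orderOf_pos x).ne' hab.symm
        have hb' : b = 1 :=
          le_antisymm (not_lt.mp hb1) (Nat.pos_of_ne_zero hb0)
        rw [hb', mul_one] at hab
        exact hpp (hab ▸ IsPrimePow.pow hp.isPrimePow
          (hp.factorization_pos_of_dvd (orderOf_pos x).ne' hpd).ne')
      have hA := hsmall (x ^ a) y (by have := hdiv a ⟨b, hab.symm⟩ ha1; omega)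
        (L.pow_mem hx a) hy (hP x hx hPx a) hPy
      have hB := hsmall (x ^ b) y (by have := hdiv b ⟨a, by rw [mul_comm]; exact hab.symm⟩ hb1; omega)
        (L.pow_mem hx b) hy (hP x hx hPx b) hPy
      have e : x = (x ^ a) ^ Nat.gcdA a b * (x ^ b) ^ Nat.gcdB a b := by
        rw [← zpow_natCast x a, ← zpow_natCast x b, ← zpow_mul, ← zpow_mul, ← zpow_add,
          ← Nat.gcd_eq_gcd_ab, hcop.gcd_eq_one, Nat.cast_one, zpow_one]
      rw [e]
      exact (hA.zpow_left _).mul_left (hB.zpow_left _)
    obtain ⟨p, m, hp', hm, hpm⟩ := hpp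
    have hp : p.Prime := hp'.nat_prime
    -- the common part
    set c := x * y * x⁻¹ * y⁻¹ with hc
    have hcy : c ∈ zpowers y := mul_mem hconjy (inv_mem (mem_zpowers y))
    have hcx : c ∈ zpowers x := by
      rw [show c = x * (y * x * y⁻¹)⁻¹ by rw [hc]; group]
      exact mul_mem (mem_zpowers x) (inv_mem hconjx)
    by_cases hc1 : c = 1
    · show x * y = y * x
      rw [hc, mul_inv_eq_one, mul_inv_eq_iff_eq_mul] at hc1
      exact hc1
    have hco : orderOf c ∣ p ^ m := hpm ▸ orderOf_dvd_of_mem_zpowers hcx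
    obtain ⟨i, -, hi⟩ := (Nat.dvd_prime_pow hp).mp hco
    have hi0 : i ≠ 0 := fun h => hc1 (orderOf_eq_one_iff.mp (by rw [hi, h, pow_zero]))
    set c' := c ^ p ^ (i - 1) with hc'
    have hc'o : orderOf c' = p := by
      rw [hc', orderOf_pow_of_dvd (pow_ne_zero _ hp.ne_zero) (hi ▸ pow_dvd_pow p (by omega)), hi,
        Nat.pow_div (by omega) hp.pos, show i - (i - 1) = 1 by omega, pow_one]
    have hpy : p ∣ orderOf y := hc'o ▸ orderOf_dvd_of_mem_zpowers (pow_mem hcy _)
    by_cases hyp : IsPrimePow (orderOf y)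
    swap
    · set a := p ^ (orderOf y).factorization p with ha
      set b := orderOf y / a with hb
      have hab : a * b = orderOf y := Nat.mul_div_cancel' (Nat.ordProj_dvd _ _)
      have hcop : Nat.Coprime a b :=
        Nat.Coprime.pow_left _ (Nat.coprime_ordCompl hp (orderOf_pos y).ne')
      have he0 := (hp.factorization_pos_of_dvd (orderOf_pos y).ne' hpy).ne'
      have ha1 : 1 < a := Nat.one_lt_pow he0 hp.one_lt
      have hb1 : 1 < b := by
        by_contra hb1
        have hb0 : b ≠ 0 := fun h0 => by rw [h0, mul_zero] at hab; exact (orderOf_pos y).ne' hab.symm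
        have hb' : b = 1 :=
          le_antisymm (not_lt.mp hb1) (Nat.pos_of_ne_zero hb0)
        rw [hb', mul_one] at hab
        exact hyp (hab ▸ IsPrimePow.pow hp.isPrimePow he0)
      have hA := hsmall x (y ^ a) (by have := hdiv a ⟨b, hab.symm⟩ ha1; omega) hx
        (L.pow_mem hy a) hPx (hP y hy hPy a)
      have hB := hsmall x (y ^ b) (by have := hdiv b ⟨a, by rw [mul_comm]; exact hab.symm⟩ hb1; omega)
        hx (L.pow_mem hy b) hPx (hP y hy hPy b)
      have e : y = (y ^ a) ^ Nat.gcdA a b * (y ^ b) ^ Nat.gcdB a b := by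
        rw [← zpow_natCast y a, ← zpow_natCast y b, ← zpow_mul, ← zpow_mul, ← zpow_add,
          ← Nat.gcd_eq_gcd_ab, hcop.gcd_eq_one, Nat.cast_one, zpow_one]
      rw [e]
      exact (hA.zpow_right _).mul_right (hB.zpow_right _)
    obtain ⟨p', n, hp'', hn, hpn⟩ := hyp
    obtain rfl : p' = p := ((Nat.prime_dvd_prime_iff_eq hp hp''.nat_prime).mp
      (hp.dvd_of_dvd_pow (hpn ▸ hpy))).symm
    have hnm : n ≤ m := by
      rw [← hpm, ← hpn] at hle
      exact (Nat.pow_le_pow_iff_right hp.one_lt).mp hle
    -- the bottom of `⟨y⟩` lies in `⟨x⟩`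
    have hbot : ∀ {z : G} {k : ℕ}, orderOf z = p' ^ k → 0 < k →
        ∀ {w : G}, w ∈ zpowers z → orderOf w = p' → zpowers w = zpowers (z ^ p' ^ (k - 1)) := by
      intro z k hz hk w hw hwo
      have hzo : orderOf (z ^ p' ^ (k - 1)) = p' := by
        rw [orderOf_pow_of_dvd (pow_ne_zero _ hp.ne_zero) (hz ▸ pow_dvd_pow p' (by omega)), hz,
          Nat.pow_div (by omega) hp.pos, show k - (k - 1) = 1 by omega, pow_one]
      refine Subgroup.eq_of_le_of_card_ge ?_ (by rw [Nat.card_zpowers, Nat.card_zpowers, hwo, hzo])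
      rw [zpowers_le]
      obtain ⟨j, rfl⟩ := mem_zpowers_iff.mp hw
      have h1 : (p' ^ k : ℤ) ∣ j * p' := by
        have h2 : z ^ (j * (p' : ℤ)) = 1 := by
          rw [zpow_mul, zpow_natCast, ← hwo, pow_orderOf_eq_one]
        have := orderOf_dvd_iff_zpow_eq_one.mpr h2
        rwa [hz, Nat.cast_pow] at this
      obtain ⟨k', rfl⟩ : ∃ k', k = k' + 1 := ⟨k - 1, by omega⟩
      have h3 : (p' : ℤ) ^ k' ∣ j := by
        rw [pow_succ] at h1
        exact Int.dvd_of_mul_dvd_mul_right (by exact_mod_cast hp.ne_zero) h1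
      obtain ⟨l, rfl⟩ := h3
      exact mem_zpowers_iff.mpr ⟨l, by rw [← zpow_natCast, ← zpow_mul, Nat.cast_pow]; rfl⟩
    have hz1 := hbot hpn.symm hn (pow_mem hcy (p' ^ (i - 1))) hc'o
    have hz2 := hbot hpm.symm hm (pow_mem hcx (p' ^ (i - 1))) hc'o
    obtain ⟨k, hk⟩ := mem_zpowers_iff.mp (hz2 ▸ hz1 ▸ mem_zpowers (y ^ p' ^ (n - 1)) :
      y ^ p' ^ (n - 1) ∈ zpowers (x ^ p' ^ (m - 1)))
    rcases Nat.lt_or_ge n 2 with hn2 | hn2
    · obtain rfl : n = 1 := by omega
      simp only [Nat.sub_self, pow_zero, pow_one] at hk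
      rw [← hk]
      exact ((Commute.refl x).pow_right _).zpow_right _
    by_cases hex : p' = 2 ∧ n = 2
    · obtain ⟨rfl, rfl⟩ := hex
      exact (h4 y hy hPy (by rw [← hpn]; norm_num) x hx hPx).symm
    -- a twisted element of smaller order
    obtain ⟨a, ha⟩ : ∃ a : ℕ, (x ^ a) ^ p' ^ (n - 1) * y ^ p' ^ (n - 1) = 1 := by
      obtain ⟨a, ha⟩ := (isOfFinOrder_of_finite x).mem_powers_iff_mem_zpowers.mpr
        (mem_zpowers_iff.mpr ⟨-k * (p' : ℤ) ^ (m - n), rfl⟩)
      refine ⟨a, ?_⟩
      change x ^ a = x ^ (-k * (p' : ℤ) ^ (m - n)) at ha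
      have e : x ^ (p' ^ (m - 1)) = x ^ ((p' : ℤ) ^ (m - n) * (p' : ℤ) ^ (n - 1)) := by
        rw [← pow_add, show m - n + (n - 1) = m - 1 by omega, ← Nat.cast_pow, zpow_natCast]
      rw [← hk, ha, ← zpow_natCast (x ^ (-k * (p' : ℤ) ^ (m - n))), ← zpow_mul, e, ← zpow_mul,
        ← zpow_add, Nat.cast_pow]
      ring_nf
      exact zpow_zero x
    set u := x ^ a with hu
    have huL : u ∈ L := L.pow_mem hx a
    have hPu : P u := hP x hx hPx a
    set d := y * u * y⁻¹ * u⁻¹ with hd
    have hdx : d ∈ zpowers x := by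
      refine mul_mem ?_ (inv_mem (pow_mem (mem_zpowers x) a))
      rw [hu, ← conj_pow]
      exact pow_mem hconjx a
    have hdy : d ∈ zpowers y := by
      rw [show d = y * (u * y * u⁻¹)⁻¹ by rw [hd]; group]
      exact mul_mem (mem_zpowers y) (inv_mem (hnorm y hy hPy u huL))
    have hcz : ∀ {z : G}, d ∈ zpowers z → Commute d z := fun {z} h => by
      obtain ⟨j, hj⟩ := mem_zpowers_iff.mp h
      rw [← hj]; exact (Commute.refl z).zpow_left j
    have hdu : Commute d u := (hcz hdx).pow_right a
    have hdyc : Commute d y := hcz hdy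
    have hyu : y * u = d * (u * y) := by rw [hd]; group
    have hyp' : Commute (y ^ p') u := by
      refine (hsmall x (y ^ p') ?_ hx (L.pow_mem hy _) hPx (hP y hy hPy _)).symm.pow_right a
      have := hdiv (z := y) p' hpy hp.one_lt
      omega
    have hdp : d ^ p' = 1 := by
      have h1 : ∀ j : ℕ, y ^ j * u = d ^ j * (u * y ^ j) := by
        intro j
        induction j with
        | zero => simp
        | succ j ihj =>
          calc y ^ (j + 1) * u = y ^ j * (y * u) := by rw [pow_succ, mul_assoc]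
            _ = d * (y ^ j * u) * y := by
              rw [hyu, ← mul_assoc, ← (hdyc.pow_right j).eq]; simp only [mul_assoc]
            _ = _ := by rw [ihj, pow_succ' d, pow_succ y]; simp only [mul_assoc]
      have h2 := h1 p'
      rw [hyp'.eq] at h2
      exact mul_eq_right.mp h2.symm
    have hy1' : (u * y) ^ p' ^ (n - 1) = 1 := by
      rw [comm_pow_mul_pow hdu hdyc hyu, ha, one_mul]
      have hch : p' ∣ (p' ^ (n - 1)).choose 2 := by
        rw [Nat.choose_two_right]
        rcases hp.eq_two_or_odd' with rfl | hodd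
        · have hn3 : 3 ≤ n := by
            by_contra h; exact hex ⟨rfl, by omega⟩
          rw [show 2 ^ (n - 1) = 2 * 2 ^ (n - 2) by rw [← pow_succ']; congr 1; omega, mul_assoc,
            Nat.mul_div_cancel_left _ two_pos]
          exact Dvd.dvd.mul_right (dvd_pow_self 2 (by omega)) _
        · refine Nat.Coprime.dvd_of_dvd_mul_right (k := p') (m := _) (n := 2) ?_ ?_
          · exact Nat.coprime_two_right.mpr hodd
          · rw [Nat.div_mul_cancel (Nat.even_mul_pred_self _).two_dvd]
            exact (dvd_pow_self p' (by omega)).mul_right _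
      obtain ⟨j, hj⟩ := hch
      rw [hj, pow_mul, hdp, one_pow]
    have hlt : orderOf (u * y) < orderOf y := by
      refine (Nat.le_of_dvd (pow_pos hp.pos _) (orderOf_dvd_of_pow_eq_one hy1')).trans_lt ?_
      rw [← hpn]
      exact Nat.pow_lt_pow_right hp.one_lt (by omega)
    have h5 := hsmall x (u * y) (by omega) hx (L.mul_mem huL hy) hPx (hPmul u huL y hy hPu hPy)
    have : y = u⁻¹ * (u * y) := by group
    rw [this]
    exact (((Commute.refl x).pow_right a).inv_right).mul_right h5

end Cfsg.Agent.Normalisers5
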