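import Cfsg.Agent.Normalisers5.Basic
import Cfsg.Agent.S0205
import Cfsg.Agent.Lib.Components.ZStarInst
import Cfsg.Agent.Lib.Fitting
import Cfsg.Agent.Lib.Solvable.Basic

/-!
# Centralisers of involutions under the normaliser hypothesis

The odd part of the centraliser of an involution is an abelian normal complement to a Sylow
`2`-subgroup, and an involution in it either has the same centraliser or inverts the odd part.
-/

set_option autoImplicit false
set_option linter.style.haveILetI false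
set_option linter.unusedSectionVars false

namespace Cfsg.Agent.Normalisers5

open Subgroup Cfsg.Agent.Fitting Cfsg.Agent.Solvable

variable {G : Type*} [Group G]

/-- No nontrivial solvable normal subgroup. -/
def NoSolv (G : Type*) [Group G] : Prop :=
  ∀ N : Subgroup G, N.Normal → Group.IsSolvable ↥N → N = ⊥

/-- The involution in a cyclic group of even order. -/
noncomputable def iota (y : G) : G := y ^ (orderOf y / 2)

theorem iota_mem (y : G) : iota y ∈ zpowers y := npow_mem_zpowers _ _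

theorem iota_commute {y g : G} (h : Commute y g) : Commute (iota y) g := h.pow_left _

theorem iota_conj (g y : G) : iota (g * y * g⁻¹) = g * iota y * g⁻¹ := by
  have h : orderOf (g * y * g⁻¹) = orderOf y := by
    rw [← MulAut.conj_apply]; exact MulEquiv.orderOf_eq (MulAut.conj g) y
  rw [iota, iota, h, conj_pow]

theorem iota_eq_self {y : G} (h : orderOf y = 2) : iota y = y := by
  rw [iota, h, Nat.div_self two_pos, pow_one]

theorem eq_or_eq_inv_of_four {y z : G} (hy : orderOf y = 4) (hz : z ∈ zpowers y)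
    (hz' : orderOf z = 4) : z = y ∨ z = y⁻¹ := by
  obtain ⟨j, rfl⟩ := mem_zpowers_iff.mp hz
  have hm : y ^ j = y ^ (j % 4) := by
    rw [← zpow_mod_orderOf y j, hy]; rfl
  have h0 := Int.emod_nonneg j (show (4 : ℤ) ≠ 0 by norm_num)
  have h1 := Int.emod_lt_of_pos j (show (0 : ℤ) < 4 by norm_num)
  have hy4 : y ^ 4 = 1 := by rw [← hy]; exact pow_orderOf_eq_one y
  obtain ⟨r, hr⟩ : ∃ r : ℕ, j % 4 = r := ⟨_, (Int.toNat_of_nonneg h0).symm⟩
  rw [hr] at hm h1
  rw [zpow_natCast] at hm
  have hr4 : r < 4 := by exact_mod_cast h1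
  interval_cases r
  · rw [hm, pow_zero, orderOf_one] at hz'; omega
  · left; rw [hm, pow_one]
  · rw [hm, orderOf_pow_of_dvd two_ne_zero (by rw [hy]; norm_num), hy] at hz'; omega
  · right; rw [hm]; exact eq_inv_of_mul_eq_one_left (by rw [← pow_succ, hy4])

theorem mul_self_eq_one {v : G} (h : orderOf v = 2) : v * v = 1 := by
  rw [← pow_two, ← h, pow_orderOf_eq_one]

theorem inv_eq_self' {v : G} (h : orderOf v = 2) : v⁻¹ = v :=
  inv_eq_of_mul_eq_one_left (mul_self_eq_one h)

theorem orderOf_conj_eq (g y : G) : orderOf (g * y * g⁻¹) = orderOf y := by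
  rw [← MulAut.conj_apply]; exact MulEquiv.orderOf_eq (MulAut.conj g) y

theorem ne_one_of_two {v : G} (h : orderOf v = 2) : v ≠ 1 := fun h' => by simp [h'] at h

theorem orderOf_two {v : G} (h : v * v = 1) (h1 : v ≠ 1) : orderOf v = 2 :=
  orderOf_eq_prime (by rw [pow_two, h]) h1

theorem commute_of_mem_cent {g t : G} (h : g ∈ centralizer ({t} : Set G)) : Commute g t :=
  mem_centralizer_singleton_iff.mp h

theorem mem_cent_of_commute {g t : G} (h : Commute g t) : g ∈ centralizer ({t} : Set G) :=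
  mem_centralizer_singleton_iff.mpr h.eq

theorem norm_involution {t : G} (ht : orderOf t = 2) :
    normalizer (zpowers t : Set G) = centralizer ({t} : Set G) := by
  ext g
  constructor
  · intro hg
    refine mem_cent_of_commute ?_
    obtain ⟨j, hj⟩ := mem_zpowers_iff.mp (conj_mem_zpowers hg)
    have hj2 : g * t * g⁻¹ = t ^ (j % 2) := by
      rw [← hj, ← zpow_mod_orderOf t j, ht]; rfl
    rcases Int.emod_two_eq_zero_or_one j with h | h
    · rw [h, zpow_zero] at hj2
      exact absurd (conj_eq_one_iff.mp hj2) (ne_one_of_two ht)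
    · rw [h, zpow_one] at hj2
      show g * t = t * g
      conv_rhs => rw [← hj2, inv_mul_cancel_right]
  · intro hg
    have h := commute_of_mem_cent hg
    refine Subgroup.mem_normalizer_iff.mpr fun x => ?_
    constructor
    · intro hx
      obtain ⟨j, rfl⟩ := mem_zpowers_iff.mp hx
      rw [(h.zpow_right j).eq, mul_inv_cancel_right]; exact hx
    · intro hx
      obtain ⟨j, hj⟩ := mem_zpowers_iff.mp hx
      have hx' : x = g⁻¹ * t ^ j * g := by rw [hj]; group
      rw [hx', mul_assoc, ← (h.zpow_right j).eq, inv_mul_cancel_left]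
      exact zpow_mem_zpowers t j

variable [Finite G]

theorem orderOf_iota {y : G} (h : Even (orderOf y)) : orderOf (iota y) = 2 := by
  obtain ⟨m, hm⟩ := h
  have hpos := orderOf_pos y
  rw [iota, orderOf_pow_of_dvd (by omega) ⟨2, by omega⟩,
    show orderOf y / 2 = m by omega, hm, ← two_mul, Nat.mul_div_cancel _ (by omega)]

theorem eq_iota {y z : G} (hz : z ∈ zpowers y) (hz2 : orderOf z = 2) : z = iota y := by
  obtain ⟨j, rfl⟩ := (isOfFinOrder_of_finite y).mem_powers_iff_mem_zpowers.mpr hz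
  change orderOf (y ^ j) = 2 at hz2
  show y ^ j = iota y
  have hd : orderOf y ∣ j * 2 := orderOf_dvd_iff_pow_eq_one.mpr (by
    rw [pow_mul, ← hz2]; exact pow_orderOf_eq_one _)
  have hnd : ¬ orderOf y ∣ j := fun h => by
    rw [orderOf_dvd_iff_pow_eq_one.mp h, orderOf_one] at hz2; omega
  obtain ⟨c, hc⟩ := hd
  rcases Nat.even_or_odd c with ⟨d, rfl⟩ | ⟨d, rfl⟩
  · exact absurd ⟨d, by linarith⟩ hnd
  · have hn : orderOf y / 2 * 2 = orderOf y := Nat.div_mul_cancel (by
      have h2 : 2 ∣ orderOf y * (2 * d + 1) := ⟨j, by linarith⟩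
      rcases Nat.prime_two.dvd_mul.mp h2 with h | h
      · exact h
      · omega)
    have hj : j = orderOf y * d + orderOf y / 2 := by
      set n := orderOf y
      set m := n / 2
      nlinarith
    rw [iota, hj, pow_add, pow_mul, pow_orderOf_eq_one, one_pow, one_mul]

theorem even_orderOf_of_mem {P : Subgroup G} (hP : IsPGroup 2 P) {y : G} (hy : y ∈ P)
    (h1 : y ≠ 1) : ∃ k, orderOf y = 2 ^ (k + 1) := by
  haveI : Fact (Nat.Prime 2) := ⟨Nat.prime_two⟩
  obtain ⟨k, hk⟩ := (IsPGroup.iff_orderOf.mp hP) ⟨y, hy⟩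
  rw [Subgroup.orderOf_mk] at hk
  rcases k with _ | k
  · exact absurd (orderOf_eq_one_iff.mp (by simpa using hk)) h1
  · exact ⟨k, hk⟩

theorem even_of_mem {P : Subgroup G} (hP : IsPGroup 2 P) {y : G} (hy : y ∈ P)
    (h1 : y ≠ 1) : Even (orderOf y) := by
  obtain ⟨k, hk⟩ := even_orderOf_of_mem hP hy h1
  rw [hk, pow_succ]; exact even_two.mul_left _

theorem eq_one_of_odd_of_mem {P : Subgroup G} (hP : IsPGroup 2 P) {y : G} (hy : y ∈ P)
    (ho : Odd (orderOf y)) : y = 1 := by
  by_contra h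
  exact Nat.not_even_iff_odd.mpr ho (even_of_mem hP hy h)

theorem isPGroup_zpowers {y : G} {k : ℕ} (h : orderOf y = 2 ^ k) : IsPGroup 2 (zpowers y) := by
  refine IsPGroup.of_card (n := k) ?_
  rw [Nat.card_zpowers, h]

/-- The odd part and the `2`-part of an element. -/
theorem exists_odd_two (g : G) : ∃ o s : G, g = o * s ∧ o ∈ zpowers g ∧ s ∈ zpowers g ∧
    Odd (orderOf o) ∧ ∃ k, orderOf s = 2 ^ k := by
  set k := (orderOf g).factorization 2
  set m := orderOf g / 2 ^ k
  have hpos := (orderOf_pos g).ne'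
  have hm : 2 ^ k * m = orderOf g := Nat.mul_div_cancel' (Nat.ordProj_dvd _ _)
  have hmo : Odd m := Nat.not_even_iff_odd.mp fun h =>
    Nat.not_dvd_ordCompl Nat.prime_two hpos h.two_dvd
  have hcop : Nat.Coprime (2 ^ k) m :=
    Nat.Coprime.pow_left k (Nat.coprime_ordCompl Nat.prime_two hpos)
  refine ⟨(g ^ 2 ^ k) ^ Nat.gcdA (2 ^ k) m, (g ^ m) ^ Nat.gcdB (2 ^ k) m, ?_,
    zpow_mem (pow_mem (mem_zpowers g) _) _, zpow_mem (pow_mem (mem_zpowers g) _) _, ?_, ?_⟩
  · rw [← zpow_natCast g (2 ^ k), ← zpow_natCast g m, ← zpow_mul, ← zpow_mul, ← zpow_add,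
      ← Nat.gcd_eq_gcd_ab, hcop.gcd_eq_one, Nat.cast_one, zpow_one]
  · refine Odd.of_dvd_nat hmo (orderOf_dvd_of_pow_eq_one ?_)
    rw [← zpow_natCast, ← zpow_mul, mul_comm, zpow_mul, zpow_natCast, ← pow_mul, hm,
      pow_orderOf_eq_one, one_zpow]
  · obtain ⟨i, -, hi⟩ := (Nat.dvd_prime_pow Nat.prime_two).mp
      (orderOf_dvd_of_pow_eq_one (x := (g ^ m) ^ Nat.gcdB (2 ^ k) m) (n := 2 ^ k) (by
        rw [← zpow_natCast, ← zpow_mul, mul_comm, zpow_mul, zpow_natCast, ← pow_mul,
          mul_comm m, hm, pow_orderOf_eq_one, one_zpow]))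
    exact ⟨i, hi⟩

theorem norm_even (hG : Hyp G) {y : G} (hy : Even (orderOf y)) :
    normalizer (zpowers y : Set G) = centralizer ({iota y} : Set G) := by
  rw [← norm_involution (orderOf_iota hy)]
  refine hG _ inferInstance (by rwa [Nat.card_zpowers]) _ (by rw [zpowers_le]; exact iota_mem y) ?_
  rw [Subgroup.zpowers_ne_bot]
  exact ne_one_of_two (orderOf_iota hy)

theorem norm_sub (hG : Hyp G) {y x : G} (hy : Even (orderOf y)) (hx : x ∈ zpowers y)
    (hx1 : x ≠ 1) : normalizer (zpowers x : Set G) = centralizer ({iota y} : Set G) := by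
  rw [← norm_even hG hy]
  exact (hG _ inferInstance (by rwa [Nat.card_zpowers]) _ (by rwa [zpowers_le])
    (by rwa [Subgroup.zpowers_ne_bot])).symm

theorem norm_odd (hG : Hyp G) {x t : G} (ht : orderOf t = 2) (hxt : Commute x t)
    (hx : Odd (orderOf x)) (hx1 : x ≠ 1) :
    normalizer (zpowers x : Set G) = centralizer ({t} : Set G) := by
  have hcop : Nat.Coprime (orderOf x) (orderOf t) := by
    rw [ht]; exact Nat.coprime_two_right.mpr hx
  have ho : orderOf (x * t) = orderOf x * 2 := by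
    rw [hxt.orderOf_mul_eq_mul_orderOf_of_coprime hcop, ht]
  have hy : Even (orderOf (x * t)) := by rw [ho]; exact even_two.mul_left _
  have hxm : x ∈ zpowers (x * t) := by
    have : (x * t) ^ (orderOf x + 1) = x := by
      rw [hxt.mul_pow, pow_succ x, pow_orderOf_eq_one, one_mul]
      obtain ⟨j, hj⟩ : 2 ∣ orderOf x + 1 := (hx.add_odd odd_one).two_dvd
      rw [hj, pow_mul, pow_two, mul_self_eq_one ht, one_pow, mul_one]
    have h := npow_mem_zpowers (x * t) (orderOf x + 1)
    rwa [this] at h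
  have htm : t ∈ zpowers (x * t) := by
    have h := mul_mem (inv_mem hxm) (mem_zpowers (x * t))
    rwa [inv_mul_cancel_left] at h
  rw [norm_sub hG hy hxm hx1, ← norm_sub hG hy htm (ne_one_of_two ht), norm_involution ht]

theorem cent_eq_of_odd (hG : Hyp G) {x t v : G} (ht : orderOf t = 2) (hv : orderOf v = 2)
    (hxt : Commute x t) (hxv : Commute x v) (hx : Odd (orderOf x)) (hx1 : x ≠ 1) :
    centralizer ({v} : Set G) = centralizer ({t} : Set G) := by
  rw [← norm_odd hG hv hxv hx hx1, norm_odd hG ht hxt hx hx1]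

theorem conj_mem_of_odd (hG : Hyp G) {x t g : G} (ht : orderOf t = 2) (hxt : Commute x t)
    (hx : Odd (orderOf x)) (hg : Commute g t) : g * x * g⁻¹ ∈ zpowers x := by
  by_cases hx1 : x = 1
  · subst hx1; simp
  · exact conj_mem_zpowers (norm_odd hG ht hxt hx hx1 ▸ mem_cent_of_commute hg)

theorem odd_mul (hG : Hyp G) {a b t : G} (ht : orderOf t = 2) (hat : Commute a t)
    (ha : Odd (orderOf a)) (hbt : Commute b t) (hb : Odd (orderOf b)) :
    Odd (orderOf (a * b)) := by
  have h : ∀ n : ℕ, (a * b) ^ n * (b ^ n)⁻¹ ∈ zpowers a := by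
    intro n
    induction n with
    | zero => simp
    | succ n ih =>
      have e : (a * b) ^ (n + 1) * (b ^ (n + 1))⁻¹ =
          (a * b) ^ n * (b ^ n)⁻¹ * (b ^ n * a * (b ^ n)⁻¹) := by
        rw [pow_succ, pow_succ]; group
      rw [e]
      exact mul_mem ih (conj_mem_of_odd hG ht hat ha (hbt.pow_left n))
  have h1 := h (orderOf b)
  rw [pow_orderOf_eq_one, inv_one, mul_one] at h1
  refine Odd.of_dvd_nat (hb.mul ha) (orderOf_dvd_of_pow_eq_one ?_)
  rw [pow_mul]
  exact orderOf_dvd_iff_pow_eq_one.mp (orderOf_dvd_of_mem_zpowers h1)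

/-- The elements of odd order commuting with an involution commute. -/
theorem odd_commute (hG : Hyp G) {x y t : G} (ht : orderOf t = 2) (hxt : Commute x t)
    (hyt : Commute y t) (hx : Odd (orderOf x)) (hy : Odd (orderOf y)) : Commute x y := by
  refine commute_of_normalised (centralizer ({t} : Set G)) (fun z => Odd (orderOf z))
    (fun z _ hz n => hz.of_dvd_nat (orderOf_pow_dvd n)) (fun a ha b hb ha' hb' =>
      odd_mul hG ht (commute_of_mem_cent ha) ha' (commute_of_mem_cent hb) hb')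
    (fun z hz hz' g hg => conj_mem_of_odd hG ht (commute_of_mem_cent hz) hz'
      (commute_of_mem_cent hg))
    (fun z _ hz h4 => absurd hz (by rw [h4]; decide)) x (mem_cent_of_commute hxt) y
    (mem_cent_of_commute hyt) hx hy

/-- The odd part of the centraliser of an involution. -/
def oddSub (hG : Hyp G) {t : G} (ht : orderOf t = 2) : Subgroup G where
  carrier := {x | Commute x t ∧ Odd (orderOf x)}
  one_mem' := ⟨Commute.one_left t, by rw [orderOf_one]; exact odd_one⟩
  mul_mem' ha hb := ⟨ha.1.mul_left hb.1, odd_mul hG ht ha.1 ha.2 hb.1 hb.2⟩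
  inv_mem' ha := ⟨ha.1.inv_left, by rw [orderOf_inv]; exact ha.2⟩

theorem mem_oddSub {hG : Hyp G} {t x : G} {ht : orderOf t = 2} :
    x ∈ oddSub hG ht ↔ Commute x t ∧ Odd (orderOf x) := Iff.rfl

theorem conj_mem_oddSub (hG : Hyp G) {t x g : G} (ht : orderOf t = 2) (hg : Commute g t)
    (hx : x ∈ oddSub hG ht) : g * x * g⁻¹ ∈ oddSub hG ht := by
  refine ⟨(hg.mul_left hx.1).mul_left hg.inv_left, ?_⟩
  rw [orderOf_conj_eq]; exact hx.2

/-- An involution commuting with `t` has the same centraliser or inverts the odd part of `C(t)`. -/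
theorem dichotomy (hG : Hyp G) {t v : G} (ht : orderOf t = 2) (hv : orderOf v = 2)
    (hvt : Commute v t) : centralizer ({v} : Set G) = centralizer ({t} : Set G) ∨
      ∀ x : G, Commute x t → Odd (orderOf x) → v * x * v⁻¹ = x⁻¹ := by
  refine or_iff_not_imp_left.mpr fun hne x hxt hx => ?_
  have h1 : v * x * v⁻¹ ∈ oddSub hG ht := conj_mem_oddSub hG ht hvt ⟨hxt, hx⟩
  have h2 : v * x * v⁻¹ * x ∈ oddSub hG ht := mul_mem h1 ⟨hxt, hx⟩
  have hc : Commute (v * x * v⁻¹) x := odd_commute hG ht h1.1 hxt h1.2 hx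
  have hfix : Commute (v * x * v⁻¹ * x) v := by
    have e : v * (v * x * v⁻¹ * x) * v⁻¹ = v * x * v⁻¹ * x := by
      calc v * (v * x * v⁻¹ * x) * v⁻¹ = v * v * x * (v⁻¹ * (x * v⁻¹)) := by
            simp only [mul_assoc]
        _ = x * (v * x * v⁻¹) := by
            rw [mul_self_eq_one hv, one_mul, inv_eq_self' hv]; simp only [mul_assoc]
        _ = _ := hc.eq.symm
    exact (mul_inv_eq_iff_eq_mul.mp e).symm
  by_contra hxx
  exact hne (cent_eq_of_odd hG ht hv h2.1 hfix h2.2 fun h => hxx (eq_inv_of_mul_eq_one_left h))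

theorem commute_iff_cent_eq (hG : Hyp G) {t v x : G} (ht : orderOf t = 2) (hv : orderOf v = 2)
    (hxt : Commute x t) (hx : Odd (orderOf x)) (hx1 : x ≠ 1) :
    (centralizer ({v} : Set G) = centralizer ({t} : Set G)) ↔ Commute x v :=
  ⟨fun h => commute_of_mem_cent (h ▸ mem_cent_of_commute hxt),
    fun h => cent_eq_of_odd hG ht hv hxt h hx hx1⟩

/-- Conjugating a `2`-subgroup of a subgroup containing a Sylow subgroup into it. -/
theorem conj_into (S : Sylow 2 G) (H : Subgroup G) (hS : (S : Subgroup G) ≤ H)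
    {P : Subgroup G} (hP : IsPGroup 2 P) (hPH : P ≤ H) :
    ∃ h ∈ H, ∀ x ∈ P, h * x * h⁻¹ ∈ (S : Subgroup G) := by
  haveI : Fact (Nat.Prime 2) := ⟨Nat.prime_two⟩
  obtain ⟨Q, hQ⟩ := (hP.comap_subtype (K := H) : IsPGroup 2 (P.subgroupOf H)).exists_le_sylow
  obtain ⟨h, hh⟩ := MulAction.exists_smul_eq H Q (S.subtype hS)
  refine ⟨h, h.2, fun x hx => ?_⟩
  have h2 : h * ⟨x, hPH hx⟩ * h⁻¹ ∈ ((h • Q : Sylow 2 H) : Subgroup H) := by
    rw [Sylow.coe_subgroup_smul]
    exact ⟨⟨x, hPH hx⟩, hQ hx, rfl⟩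
  rw [hh] at h2
  exact h2

/-- An element of `2`-power order centralising a Sylow `2`-subgroup lies in it. -/
theorem mem_sylow_of_commute (S : Sylow 2 G) {s : G} {k : ℕ} (hk : orderOf s = 2 ^ k)
    (hc : ∀ p ∈ (S : Subgroup G), Commute p s) : s ∈ (S : Subgroup G) := by
  obtain ⟨h, hh, hmem⟩ := conj_into S (centralizer ({s} : Set G))
    (fun p hp => mem_cent_of_commute (hc p hp)) (isPGroup_zpowers hk)
    (by rw [zpowers_le]; exact mem_cent_of_commute (Commute.refl s))
  have := hmem s (mem_zpowers s)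
  rwa [(commute_of_mem_cent hh).eq, mul_inv_cancel_right] at this

/-- `C(t)` is the product of its odd part and a Sylow subgroup of `G` contained in it. -/
theorem decomp (hG : Hyp G) {t : G} (ht : orderOf t = 2) (S : Sylow 2 G)
    (hS : ∀ p ∈ (S : Subgroup G), Commute p t) {g : G} (hg : Commute g t) :
    ∃ o ∈ oddSub hG ht, ∃ s ∈ (S : Subgroup G), g = o * s := by
  haveI : Fact (Nat.Prime 2) := ⟨Nat.prime_two⟩
  set O := oddSub hG ht
  set C := centralizer ({t} : Set G)
  have hnorm : (S : Subgroup G) ≤ normalizer (O : Set G) := fun p hp =>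
    Subgroup.mem_normalizer_iff.mpr fun x => ⟨fun hx => conj_mem_oddSub hG ht (hS p hp) hx,
      fun hx => by
        have h := conj_mem_oddSub hG ht (hS p hp).inv_left hx
        rwa [show p⁻¹ * (p * x * p⁻¹) * p⁻¹⁻¹ = x by group] at h⟩
  have hle : O ⊔ (S : Subgroup G) ≤ C :=
    sup_le (fun x hx => mem_cent_of_commute hx.1) fun p hp => mem_cent_of_commute (hS p hp)
  have heq : O ⊔ (S : Subgroup G) = C := by
    refine Subgroup.eq_of_le_of_card_ge hle (Nat.le_of_dvd Nat.card_pos ?_)
    refine (Nat.dvd_iff_prime_pow_dvd_dvd _ _).mpr fun p k hp hdvd => ?_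
    haveI : Fact p.Prime := ⟨hp⟩
    by_cases hp2 : p = 2
    · subst hp2
      exact (S.pow_dvd_card_of_pow_dvd_card (hdvd.trans C.card_subgroup_dvd_card)).trans
        (card_dvd_of_le le_sup_right)
    · obtain ⟨R⟩ : Nonempty (Sylow p C) := inferInstance
      have hR : (R : Subgroup C).map C.subtype ≤ O := by
        rintro _ ⟨r, hr, rfl⟩
        obtain ⟨i, hi⟩ := (IsPGroup.iff_orderOf.mp R.2) ⟨r, hr⟩
        rw [Subgroup.orderOf_mk] at hi
        refine ⟨commute_of_mem_cent r.2, ?_⟩
        rw [Subgroup.coe_subtype, Subgroup.orderOf_coe, hi]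
        exact (hp.odd_of_ne_two hp2).pow
      refine (R.pow_dvd_card_of_pow_dvd_card hdvd).trans ?_
      rw [← Subgroup.card_map_of_injective C.subtype_injective]
      exact card_dvd_of_le (hR.trans le_sup_left)
  have hmem : g ∈ O ⊔ (S : Subgroup G) := heq.symm ▸ mem_cent_of_commute hg
  rw [← SetLike.mem_coe, Subgroup.coe_mul_of_right_le_normalizer_left O S hnorm] at hmem
  obtain ⟨o, ho, s, hs, rfl⟩ := Set.mem_mul.mp hmem
  exact ⟨o, ho, s, hs, rfl⟩

/-- Two Sylow subgroups are conjugate. -/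
theorem sylow_conj (S S' : Sylow 2 G) :
    ∃ g : G, ∀ x : G, x ∈ (S' : Subgroup G) ↔ g⁻¹ * x * g ∈ (S : Subgroup G) := by
  haveI : Fact (Nat.Prime 2) := ⟨Nat.prime_two⟩
  obtain ⟨g, hg⟩ := MulAction.exists_smul_eq G S S'
  refine ⟨g, fun x => ?_⟩
  rw [← hg, Sylow.coe_subgroup_smul]
  constructor
  · rintro ⟨y, hy, rfl⟩
    show g⁻¹ * (g * y * g⁻¹) * g ∈ _
    rwa [show g⁻¹ * (g * y * g⁻¹) * g = y by group]
  · intro h
    exact ⟨_, h, show g * (g⁻¹ * x * g) * g⁻¹ = x by group⟩

theorem exists_sylow_mem {t : G} (ht : orderOf t = 2) :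
    ∃ P : Sylow 2 G, t ∈ (P : Subgroup G) := by
  haveI : Fact (Nat.Prime 2) := ⟨Nat.prime_two⟩
  obtain ⟨P, hP⟩ := (isPGroup_zpowers (k := 1) (by rw [ht, pow_one])).exists_le_sylow
  exact ⟨P, hP (mem_zpowers t)⟩

omit [Finite G] in
theorem Hyp.subgroup (hG : Hyp G) (H : Subgroup G) : Hyp ↥H := by
  intro X hX he Y hYX hY
  have hinj := H.subtype_injective
  haveI := hX
  have key : ∀ Z : Subgroup H, normalizer (Z : Set H) =
      (normalizer ((Z.map H.subtype : Subgroup G) : Set G)).comap H.subtype := by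
    intro Z
    ext g
    simp only [Subgroup.mem_comap, Subgroup.mem_normalizer_iff]
    constructor
    · intro h x
      constructor
      · rintro ⟨z, hz, rfl⟩
        exact ⟨g * z * g⁻¹, (h z).mp hz, by simp⟩
      · rintro ⟨z, hz, hzx⟩
        refine ⟨g⁻¹ * z * g, (h _).mpr ?_, ?_⟩
        · rwa [show g * (g⁻¹ * z * g) * g⁻¹ = z by group]
        · rw [map_mul, map_mul, map_inv, hzx]; group
    · intro h x
      have := h (x : G)
      rw [← Subgroup.coe_subtype, ← map_inv, ← map_mul, ← map_mul,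
        Subgroup.mem_map_iff_mem hinj, Subgroup.mem_map_iff_mem hinj] at this
      exact this
  rw [key, key, hG (X.map H.subtype)
    (isCyclic_of_surjective _ (X.equivMapOfInjective _ hinj).surjective)
    (by rwa [Subgroup.card_map_of_injective hinj]) (Y.map H.subtype) (Subgroup.map_mono hYX)
    (by rwa [Ne, Subgroup.map_eq_bot_iff_of_injective _ hinj])]

theorem NoSolv.normal (hn : NoSolv G) (N : Subgroup G) [N.Normal] : NoSolv ↥N := by
  intro M hM hMs
  by_contra hM0
  haveI := hM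
  obtain ⟨K, hK, hK0, hKM, hmin⟩ := exists_minimal_normal_le M hM0
  haveI := hK
  haveI : Group.IsSolvable ↥M := hMs
  haveI : Group.IsSolvable ↥K :=
    Group.isSolvable_of_isSolvable_injective (Subgroup.inclusion_injective hKM)
  haveI := isMulCommutative_of_minimal_normal K hK0 hmin
  letI : CommGroup K := { (inferInstance : Group K) with mul_comm := fun a b => mul_comm' a b }
  have hKn : Group.IsNilpotent K := inferInstance
  have hF : (Cfsg.fittingSubgroup N).map N.subtype = ⊥ := by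
    refine hn _ inferInstance ?_
    haveI := fitting_isNilpotent (G := N)
    haveI : Group.IsNilpotent ↥((Cfsg.fittingSubgroup N).map N.subtype) :=
      Group.nilpotent_of_mulEquiv (Subgroup.equivMapOfInjective _ _ N.subtype_injective)
    infer_instance
  rw [Subgroup.map_eq_bot_iff_of_injective _ N.subtype_injective] at hF
  exact hK0 (le_bot_iff.mp (hF ▸ le_fitting hK hKn))

theorem even_card (hn : NoSolv G) [Nontrivial G] : Even (Nat.card G) := by
  by_contra h
  haveI := Cfsg.Agent.S0205.result (G := G) (Nat.not_even_iff_odd.mp h)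
  exact top_ne_bot (hn ⊤ inferInstance inferInstance)

theorem exists_involution (hn : NoSolv G) [Nontrivial G] : ∃ t : G, orderOf t = 2 := by
  haveI : Fact (Nat.Prime 2) := ⟨Nat.prime_two⟩
  exact exists_prime_orderOf_dvd_card' 2 (even_card hn).two_dvd

/-- No involution is isolated in a Sylow subgroup. -/
theorem isolated_false (hn : NoSolv G) (P : Sylow 2 G) {t : G} (ht : orderOf t = 2)
    (htP : t ∈ (P : Subgroup G))
    (hiso : ∀ g : G, g * t * g⁻¹ ∈ (P : Subgroup G) → g * t * g⁻¹ = t) : False := by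
  obtain ⟨N, hN, hNo, hc⟩ := Components.zStarProperty G P t ht htP hiso
  have hN0 : N = ⊥ := hn N hN (Cfsg.Agent.S0205.result hNo)
  have hcen : ∀ g : G, Commute g t := fun g => by
    have h := hc g
    rw [hN0, Subgroup.mem_bot, mul_inv_eq_one, mul_inv_eq_iff_eq_mul] at h
    exact h.symm
  have hnormal : (zpowers t).Normal := by
    refine ⟨fun x hx g => ?_⟩
    obtain ⟨j, rfl⟩ := mem_zpowers_iff.mp hx
    rw [((hcen g).zpow_right j).eq, mul_inv_cancel_right]; exact hx
  exact ne_one_of_two ht (Subgroup.zpowers_eq_bot.mp (hn _ hnormal inferInstance))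

end Cfsg.Agent.Normalisers5
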