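import Cfsg.Agent.Normalisers5.Core
import Cfsg.Agent.BSW7.PSL
import Cfsg.Agent.Lib.Involution.IndexTwo

/-!
# Groups with a centraliser of an involution of dihedral type

If `C(z)` is an abelian group inverted by an involution `w` conjugate to `z`, the group is
`PSL(2,q)` or has a subgroup `PSL(2,q)` of index two.
-/

set_option autoImplicit false
set_option linter.style.haveILetI false
set_option linter.unusedSectionVars false

namespace Cfsg.Agent.Normalisers5

open Subgroup

variable {G : Type*} [Group G] [Finite G]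

theorem zpow_commute_of {a x : G} (h : Commute x a) {p : G} (hp : p ∈ zpowers a) : Commute x p := by
  obtain ⟨j, rfl⟩ := mem_zpowers_iff.mp hp
  exact h.zpow_right j

theorem conj_inv_of_mem {a w : G} (hinv : w * a * w⁻¹ = a⁻¹) {p : G} (hp : p ∈ zpowers a) :
    w * p * w⁻¹ = p⁻¹ := by
  obtain ⟨j, rfl⟩ := mem_zpowers_iff.mp hp
  rw [← conj_zpow, hinv, inv_zpow]

/-- The dihedral group generated by `a` and an involution inverting it. -/
def twoSub (a w : G) (hw : orderOf w = 2) (hinv : w * a * w⁻¹ = a⁻¹) : Subgroup G where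
  carrier := {p | p ∈ zpowers a ∨ w * p ∈ zpowers a}
  one_mem' := Or.inl (one_mem _)
  mul_mem' := by
    have hw' : ∀ p : G, w * p ∈ zpowers a → ∃ q ∈ zpowers a, p = w * q := fun p hp =>
      ⟨w * p, hp, by rw [← mul_assoc, mul_self_eq_one hw, one_mul]⟩
    have hswap : ∀ q ∈ zpowers a, w * q = q⁻¹ * w := fun q hq => by
      rw [← conj_inv_of_mem hinv hq, inv_mul_cancel_right]
    rintro p p' hp hp'
    rcases hp with hp | hp <;> rcases hp' with hp' | hp'
    · exact Or.inl (mul_mem hp hp')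
    · obtain ⟨q, hq, rfl⟩ := hw' p' hp'
      refine Or.inr ?_
      rw [← mul_assoc, hswap p hp, mul_assoc, ← mul_assoc w w, mul_self_eq_one hw, one_mul]
      exact mul_mem (inv_mem hp) hq
    · refine Or.inr ?_
      rw [← mul_assoc]; exact mul_mem hp hp'
    · obtain ⟨q, hq, rfl⟩ := hw' p hp
      refine Or.inl ?_
      rw [hswap q hq, mul_assoc]
      exact mul_mem (inv_mem hq) hp'
  inv_mem' := by
    rintro p (hp | hp)
    · exact Or.inl (inv_mem hp)
    · refine Or.inr ?_
      have h := conj_inv_of_mem hinv (inv_mem hp)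
      rw [inv_inv, mul_inv_rev, inv_eq_self' hw] at h
      have e : w * (p⁻¹ * w) * w = w * p⁻¹ := by
        rw [mul_assoc, mul_assoc, mul_self_eq_one hw, mul_one]
      rw [e] at h
      rw [h]; exact hp

theorem mem_twoSub {a w p : G} {hw : orderOf w = 2} {hinv : w * a * w⁻¹ = a⁻¹} :
    p ∈ twoSub a w hw hinv ↔ p ∈ zpowers a ∨ w * p ∈ zpowers a := Iff.rfl

theorem out_twoSub {a w p : G} (hw : orderOf w = 2) (hinv : w * a * w⁻¹ = a⁻¹)
    (hp : w * p ∈ zpowers a) : p * p = 1 := by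
  have h := conj_inv_of_mem hinv hp
  rw [show w * (w * p) * w⁻¹ = w * w * (p * w⁻¹) by simp only [mul_assoc], mul_self_eq_one hw,
    one_mul, mul_inv_rev, inv_eq_self' hw, mul_left_inj] at h
  exact mul_eq_one_iff_eq_inv.mpr h

theorem card_twoSub {a w : G} (hw : orderOf w = 2) (hinv : w * a * w⁻¹ = a⁻¹)
    (hwa : w ∉ zpowers a) : Nat.card (twoSub a w hw hinv) = 2 * orderOf a := by
  rw [← Nat.card_zpowers a]
  have e : Nat.card (twoSub a w hw hinv) = Nat.card (zpowers a ⊕ zpowers a) := by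
    let f : zpowers a ⊕ zpowers a → twoSub a w hw hinv := fun x => Sum.elim
      (fun q : zpowers a => (⟨(q : G), Or.inl q.2⟩ : twoSub a w hw hinv))
      (fun q : zpowers a => ⟨w * (q : G),
        Or.inr (by rw [← mul_assoc, mul_self_eq_one hw, one_mul]; exact q.2)⟩) x
    refine (Nat.card_eq_of_bijective f ⟨?_, ?_⟩).symm
    · have key : ∀ q q' : zpowers a, (q : G) ≠ w * q' := fun q q' h => hwa (by
        rw [show w = (q : G) * (q' : G)⁻¹ by rw [h, mul_inv_cancel_right]]
        exact mul_mem q.2 (inv_mem q'.2))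
      rintro (q | q) (q' | q') h <;> have h' := congrArg Subtype.val h
      · exact congrArg Sum.inl (Subtype.ext h')
      · exact absurd h' (key q q')
      · exact absurd h'.symm (key q' q)
      · exact congrArg Sum.inr (Subtype.ext (mul_left_cancel h'))
    · rintro ⟨p, hp | hp⟩
      · exact ⟨Sum.inl ⟨p, hp⟩, rfl⟩
      · refine ⟨Sum.inr ⟨w * p, hp⟩, Subtype.ext ?_⟩
        show w * (w * p) = p
        rw [← mul_assoc, mul_self_eq_one hw, one_mul]
  rw [e, Nat.card_sum, two_mul]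

theorem isPGroup_twoSub {a w : G} (hw : orderOf w = 2) (hinv : w * a * w⁻¹ = a⁻¹) {k : ℕ}
    (hk : orderOf a = 2 ^ k) : IsPGroup 2 (twoSub a w hw hinv) := by
  rintro ⟨p, hp | hp⟩
  · exact ⟨k, Subtype.ext (orderOf_dvd_iff_pow_eq_one.mp
      (hk ▸ orderOf_dvd_of_mem_zpowers hp))⟩
  · exact ⟨1, Subtype.ext (by
      show p ^ 2 ^ 1 = 1
      rw [pow_one, pow_two, out_twoSub hw hinv hp])⟩

theorem subgroup_iota (M : Subgroup G) (x : M) : ((iota x : M) : G) = iota (x : G) := by
  rw [iota, iota, Subgroup.orderOf_coe, Subgroup.coe_pow]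

/-- `a` and `w` describe `C(iota a)` as a generalised dihedral group. -/
structure Dih (a w : G) : Prop where
  ha : ∃ k, orderOf a = 2 ^ (k + 1)
  hw : orderOf w = 2
  inv : w * a * w⁻¹ = a⁻¹
  hwa : w ∉ zpowers a
  odd : ∀ x : G, Commute x (iota a) → Odd (orderOf x) → w * x * w⁻¹ = x⁻¹
  gen : ∀ h : G, Commute h (iota a) → ∃ o p : G, Commute o (iota a) ∧ Odd (orderOf o) ∧
    (p ∈ zpowers a ∨ w * p ∈ zpowers a) ∧ h = o * p

namespace Dih

variable {a w : G}

theorem even (D : Dih a w) : Even (orderOf a) := by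
  obtain ⟨k, hk⟩ := D.ha
  rw [hk, pow_succ]; exact even_two.mul_left _

theorem hz (D : Dih a w) : orderOf (iota a) = 2 := orderOf_iota D.even

theorem w_comm (D : Dih a w) : Commute w (iota a) := by
  have h := conj_inv_of_mem D.inv (iota_mem a)
  rw [inv_eq_self' D.hz] at h
  exact mul_inv_eq_iff_eq_mul.mp h

theorem commute_a (hG : Hyp G) (D : Dih a w) {x : G} (hx : Commute x (iota a))
    (ho : Odd (orderOf x)) : Commute x a := by
  have h1 : x * a * x⁻¹ ∈ zpowers a :=
    conj_mem_zpowers ((norm_even hG D.even).symm ▸ mem_cent_of_commute hx)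
  have h2 : a * x * a⁻¹ ∈ zpowers x :=
    conj_mem_of_odd hG D.hz hx ho (iota_commute (Commute.refl a)).symm
  set c := x * a * x⁻¹ * a⁻¹ with hc
  have hca : c ∈ zpowers a := mul_mem h1 (inv_mem (mem_zpowers a))
  have hcx : c ∈ zpowers x := by
    rw [show c = x * (a * x * a⁻¹)⁻¹ by rw [hc]; group]
    exact mul_mem (mem_zpowers x) (inv_mem h2)
  obtain ⟨k, hk⟩ := D.ha
  have hcop : Nat.Coprime (orderOf a) (orderOf x) := by
    rw [hk]; exact (Nat.coprime_two_left.mpr ho).pow_left _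
  have hc1 : c = 1 := orderOf_eq_one_iff.mp (Nat.dvd_one.mp (hcop ▸
    Nat.dvd_gcd (orderOf_dvd_of_mem_zpowers hca) (orderOf_dvd_of_mem_zpowers hcx)))
  rw [hc, mul_inv_eq_one, mul_inv_eq_iff_eq_mul] at hc1
  exact hc1

/-- The abelian subgroup of index two of `C(iota a)`. -/
def K (hG : Hyp G) (D : Dih a w) : Subgroup G where
  carrier := {h | ∃ o ∈ oddSub hG D.hz, ∃ p ∈ zpowers a, h = o * p}
  one_mem' := ⟨1, one_mem _, 1, one_mem _, (one_mul 1).symm⟩
  mul_mem' := by
    rintro _ _ ⟨o, ho, p, hp, rfl⟩ ⟨o', ho', p', hp', rfl⟩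
    exact ⟨o * o', mul_mem ho ho', p * p', mul_mem hp hp',
      Commute.mul_mul_mul_comm (zpow_commute_of (D.commute_a hG ho'.1 ho'.2) hp).symm o p'⟩
  inv_mem' := by
    rintro _ ⟨o, ho, p, hp, rfl⟩
    refine ⟨o⁻¹, inv_mem ho, p⁻¹, inv_mem hp, ?_⟩
    rw [mul_inv_rev]
    exact ((zpow_commute_of (D.commute_a hG ho.1 ho.2) hp).inv_inv).eq.symm

variable (hG : Hyp G) (D : Dih a w)
include hG D

theorem a_le_K {p : G} (hp : p ∈ zpowers a) : p ∈ D.K hG :=
  ⟨1, one_mem _, p, hp, (one_mul p).symm⟩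

theorem K_comm : ∀ x ∈ D.K hG, ∀ y ∈ D.K hG, x * y = y * x := by
  rintro _ ⟨o, ho, p, hp, rfl⟩ _ ⟨o', ho', p', hp', rfl⟩
  have h1 : Commute o o' := odd_commute hG D.hz ho.1 ho'.1 ho.2 ho'.2
  have h2 : Commute p p' := zpow_commute_of (zpow_commute_of (Commute.refl a) hp).symm hp'
  have h3 := zpow_commute_of (D.commute_a hG ho.1 ho.2) hp'
  have h4 := zpow_commute_of (D.commute_a hG ho'.1 ho'.2) hp
  exact ((h1.mul_right h3).mul_left (h4.symm.mul_right h2)).eq

theorem K_le {x : G} (hx : x ∈ D.K hG) : Commute x (iota a) := by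
  obtain ⟨o, ho, p, hp, rfl⟩ := hx
  exact ho.1.mul_left (zpow_commute_of (iota_commute (Commute.refl a)) hp).symm

theorem K_inv {x : G} (hx : x ∈ D.K hG) : w * x * w⁻¹ = x⁻¹ := by
  obtain ⟨o, ho, p, hp, rfl⟩ := hx
  rw [← conj_mul, D.odd o ho.1 ho.2, conj_inv_of_mem D.inv hp, mul_inv_rev]
  exact ((zpow_commute_of (D.commute_a hG ho.1 ho.2) hp).inv_inv).eq

theorem mem_zpowers_of_K {x : G} (hx : x ∈ D.K hG) (h2 : ∃ i, orderOf x = 2 ^ i) :
    x ∈ zpowers a := by
  obtain ⟨o, ho, p, hp, rfl⟩ := hx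
  obtain ⟨i, hi⟩ := h2
  obtain ⟨k, hk⟩ := D.ha
  have hc : Commute (o * p) p⁻¹ :=
    ((zpow_commute_of (D.commute_a hG ho.1 ho.2) hp).mul_left (Commute.refl p)).inv_right
  have hd : orderOf o ∣ 2 ^ (i + (k + 1)) := by
    have hlcm := hc.orderOf_mul_dvd_lcm
    rw [mul_inv_cancel_right, hi, orderOf_inv] at hlcm
    exact hlcm.trans (Nat.lcm_dvd (pow_dvd_pow 2 (by omega))
      (((orderOf_dvd_of_mem_zpowers hp).trans (by rw [hk])).trans (pow_dvd_pow 2 (by omega))))
  have ho1 : o = 1 := by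
    obtain ⟨j, -, hj⟩ := (Nat.dvd_prime_pow Nat.prime_two).mp hd
    rcases j with _ | j
    · exact orderOf_eq_one_iff.mp (by simpa using hj)
    · exact absurd ho.2 (by rw [hj, Nat.not_odd_iff_even, pow_succ]; exact even_two.mul_left _)
  rw [ho1, one_mul]; exact hp

theorem eq_z_of_K {x : G} (hx : x ∈ D.K hG) (h2 : orderOf x = 2) : x = iota a :=
  eq_iota (D.mem_zpowers_of_K hG hx ⟨1, by rw [h2, pow_one]⟩) h2

theorem mem_cases {h : G} (hh : Commute h (iota a)) :
    h ∈ D.K hG ∨ (h * w ∈ D.K hG ∧ h * h = 1) := by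
  obtain ⟨o, p, ho, ho', hp | hp, rfl⟩ := D.gen h hh
  · exact Or.inl ⟨o, ⟨ho, ho'⟩, p, hp, rfl⟩
  · right
    have hk : o * p * w ∈ D.K hG := by
      have e : p * w = (w * p)⁻¹ := by
        rw [mul_inv_rev, inv_eq_self' D.hw, inv_eq_of_mul_eq_one_left (out_twoSub D.hw D.inv hp)]
      rw [mul_assoc, e]
      exact ⟨o, ⟨ho, ho'⟩, _, inv_mem hp, rfl⟩
    refine ⟨hk, ?_⟩
    have h := D.K_inv hG hk
    rw [show w * (o * p * w) * w⁻¹ = w * (o * p) * (w * w⁻¹) by simp only [mul_assoc],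
      mul_inv_cancel, mul_one, mul_inv_rev, inv_eq_self' D.hw, mul_right_inj] at h
    exact mul_eq_one_iff_eq_inv.mpr h

theorem w_notMem : w ∉ D.K hG := fun h =>
  D.hwa (D.mem_zpowers_of_K hG h ⟨1, by rw [D.hw, pow_one]⟩)

theorem out_inv {h : G} (hh : Commute h (iota a)) (hK : h ∉ D.K hG) {x : G} (hx : x ∈ D.K hG) :
    h * x * h⁻¹ = x⁻¹ := by
  obtain ⟨hk, -⟩ := (D.mem_cases hG hh).resolve_left hK
  set q := h * w
  have e : h = q * w := by rw [show q = h * w from rfl, mul_assoc, mul_self_eq_one D.hw, mul_one]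
  rw [e, show q * w * x * (q * w)⁻¹ = q * (w * x * w⁻¹) * q⁻¹ by group, D.K_inv hG hx,
    D.K_comm hG q hk _ (inv_mem hx), mul_inv_cancel_right]

/-- The set-up of the abstract Brauer–Suzuki–Wall theorem. -/
noncomputable def setup (hconj : ∀ x y : G, orderOf x = 2 → orderOf y = 2 → IsConj x y) :
    BSW7.Setup G where
  t := iota a
  K := D.K hG
  s := w
  ht := D.hz
  comm := D.K_comm hG
  le x hx := mem_cent_of_commute (D.K_le hG hx)
  tK := D.a_le_K hG (iota_mem a)
  hs := D.hw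
  sH := mem_cent_of_commute D.w_comm
  sK := D.w_notMem hG
  gen := by
    refine le_antisymm (sup_le (fun x hx => mem_cent_of_commute (D.K_le hG hx))
      (zpowers_le.mpr (mem_cent_of_commute D.w_comm))) fun h hh => ?_
    rcases D.mem_cases hG (commute_of_mem_cent hh) with hk | ⟨hk, -⟩
    · exact mem_sup_left hk
    · have := mul_mem (mem_sup_left (T := zpowers w) hk) (mem_sup_right (inv_mem (mem_zpowers w)))
      rwa [mul_inv_cancel_right] at this
  inter := by
    refine le_antisymm (fun x hx => ?_) ?_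
    · have h := D.K_inv hG hx.1
      rw [(commute_of_mem_cent hx.2).symm.eq, mul_inv_cancel_right] at h
      have hxx : x * x = 1 := by nth_rw 2 [h]; exact mul_inv_cancel x
      by_cases h1 : x = 1
      · rw [h1]; exact one_mem _
      · rw [D.eq_z_of_K hG hx.1 (orderOf_two hxx h1)]; exact mem_zpowers _
    · rw [zpowers_le]
      exact ⟨D.a_le_K hG (iota_mem a), mem_cent_of_commute D.w_comm.symm⟩
  inv x hx := D.K_inv hG hx
  ti g hg := by
    rw [eq_bot_iff]
    rintro x ⟨hx, y, hy, rfl⟩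
    rw [Subgroup.mem_bot]
    change g * y * g⁻¹ = 1
    change g * y * g⁻¹ ∈ D.K hG at hx
    by_contra hne
    rcases Nat.even_or_odd (orderOf y) with he | hod
    · have h1 : iota (g * y * g⁻¹) = iota a := D.eq_z_of_K hG
        (zpowers_le.mpr hx (iota_mem _)) (orderOf_iota (by rwa [orderOf_conj_eq]))
      have h2 : iota y = iota a :=
        D.eq_z_of_K hG (zpowers_le.mpr hy (iota_mem _)) (orderOf_iota he)
      rw [iota_conj, h2] at h1
      exact hg (mem_cent_of_commute (mul_inv_eq_iff_eq_mul.mp h1))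
    · set x := g * y * g⁻¹ with hxdef
      set v := g * iota a * g⁻¹ with hvdef
      have hv2 : orderOf v = 2 := by rw [hvdef, orderOf_conj_eq, D.hz]
      have hxo : Odd (orderOf x) := by rwa [hxdef, orderOf_conj_eq]
      have hxv : Commute x v := by
        have := (D.K_le hG hy).map (MulAut.conj g)
        rwa [MulAut.conj_apply, MulAut.conj_apply] at this
      have hceq := cent_eq_of_odd hG D.hz hv2 (D.K_le hG hx) hxv hxo hne
      have hvz : Commute v (iota a) :=
        commute_of_mem_cent (hceq ▸ mem_cent_of_commute (Commute.refl v))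
      by_cases hvK : v ∈ D.K hG
      · exact hg (mem_cent_of_commute (mul_inv_eq_iff_eq_mul.mp (D.eq_z_of_K hG hvK hv2)))
      · have h := D.out_inv hG hvz hvK hx
        rw [hxv.symm.eq, mul_inv_cancel_right] at h
        have hxx : x * x = 1 := by nth_rw 2 [h]; exact mul_inv_cancel x
        rw [orderOf_two hxx hne] at hxo
        exact absurd hxo (by decide)
  conj := hconj

theorem card_le {P : Subgroup G} (hP : IsPGroup 2 P) (hc : ∀ p ∈ P, Commute p (iota a)) :
    Nat.card P ≤ 2 * orderOf a := by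
  classical
  have hin : ∀ p ∈ P, p ∈ D.K hG → p ∈ zpowers a := by
    intro p hp hK
    by_cases h1 : p = 1
    · rw [h1]; exact one_mem _
    · obtain ⟨k, hk⟩ := even_orderOf_of_mem hP hp h1
      exact D.mem_zpowers_of_K hG hK ⟨_, hk⟩
  have hmul : ∀ p ∈ P, ∀ q ∈ P, p ∉ D.K hG → q ∉ D.K hG → p * q ∈ zpowers a := by
    intro p hp q hq hpK hqK
    refine hin _ (mul_mem hp hq) ?_
    obtain ⟨h1, -⟩ := (D.mem_cases hG (hc p hp)).resolve_left hpK
    obtain ⟨h2, hqq⟩ := (D.mem_cases hG (hc q hq)).resolve_left hqK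
    have e : p * q = (p * w) * (q * w)⁻¹ := by
      rw [mul_inv_rev, inv_eq_self' D.hw, inv_eq_of_mul_eq_one_left hqq, mul_assoc p w,
        ← mul_assoc w w, mul_self_eq_one D.hw, one_mul]
    rw [e]; exact mul_mem h1 (inv_mem h2)
  rw [← Nat.card_zpowers a, two_mul, ← Nat.card_sum]
  by_cases hp0 : ∃ p ∈ P, p ∉ D.K hG
  · obtain ⟨p₀, hp₀, hp₀K⟩ := hp0
    refine Nat.card_le_card_of_injective (fun p : P =>
      if h : (p : G) ∈ D.K hG then Sum.inl ⟨p, hin p p.2 h⟩
      else Sum.inr ⟨p * p₀, hmul p p.2 p₀ hp₀ h hp₀K⟩) ?_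
    intro p q h
    dsimp only at h
    split_ifs at h with h1 h2 h2
    · have h' := congrArg Subtype.val (Sum.inl.inj h)
      exact Subtype.ext h'
    · have h' := congrArg Subtype.val (Sum.inr.inj h)
      exact Subtype.ext (mul_right_cancel h')
  · push Not at hp0
    refine Nat.card_le_card_of_injective
      (fun p : P => Sum.inl ⟨p, hin p p.2 (hp0 p p.2)⟩) ?_
    intro p q h
    dsimp only at h
    have h' := congrArg Subtype.val (Sum.inl.inj h)
    exact Subtype.ext h'

theorem sylow_eq (hconj : ∀ x y : G, orderOf x = 2 → orderOf y = 2 → IsConj x y) :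
    ∃ S : Sylow 2 G, (S : Subgroup G) = twoSub a w D.hw D.inv := by
  haveI : Fact (Nat.Prime 2) := ⟨Nat.prime_two⟩
  obtain ⟨k, hk⟩ := D.ha
  obtain ⟨S, hS⟩ := (isPGroup_twoSub D.hw D.inv hk).exists_le_sylow
  refine ⟨S, (Subgroup.eq_of_le_of_card_ge hS ?_).symm⟩
  rw [card_twoSub D.hw D.inv D.hwa]
  haveI : Nontrivial (S : Subgroup G) := by
    refine (Subgroup.nontrivial_iff_exists_ne_one _).mpr
      ⟨w, hS (Or.inr ?_), ne_one_of_two D.hw⟩
    rw [mul_self_eq_one D.hw]; exact one_mem _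
  haveI := S.2.center_nontrivial
  obtain ⟨c, hc⟩ := exists_ne (1 : center (S : Subgroup G))
  have hc1 : ((c : (S : Subgroup G)) : G) ≠ 1 := fun h => hc (Subtype.ext (Subtype.ext h))
  have he := even_of_mem S.2 (c : (S : Subgroup G)).2 hc1
  obtain ⟨g, hg⟩ := isConj_iff.mp (hconj (iota ((c : (S : Subgroup G)) : G)) (iota a)
    (orderOf_iota he) D.hz)
  have hle := D.card_le hG (P := (S : Subgroup G).map (MulAut.conj g).toMonoidHom)
    (S.2.map _) (by
      rintro _ ⟨p, hp, rfl⟩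
      rw [← hg]
      have hcp : Commute ((c : (S : Subgroup G)) : G) p :=
        (congrArg Subtype.val (Subgroup.mem_center_iff.mp c.2 ⟨p, hp⟩)).symm
      exact (iota_commute hcp).symm.map (MulAut.conj g))
  rwa [Subgroup.card_map_of_injective (MulAut.conj g).injective] at hle

theorem normal_eq_top (hn : NoSolv G)
    (hconj : ∀ x y : G, orderOf x = 2 → orderOf y = 2 → IsConj x y)
    (N : Subgroup G) [N.Normal] (hN : N ≠ ⊥) : N = ⊤ := by
  haveI : Fact (Nat.Prime 2) := ⟨Nat.prime_two⟩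
  have hev : Even (Nat.card N) := by
    by_contra h
    exact hN (hn N inferInstance (Cfsg.Agent.S0205.result (Nat.not_even_iff_odd.mp h)))
  obtain ⟨t, ht⟩ := exists_prime_orderOf_dvd_card' 2 hev.two_dvd
  have hinvol : ∀ x : G, orderOf x = 2 → x ∈ N := by
    intro x hx
    obtain ⟨g, hg⟩ := isConj_iff.mp (hconj (t : G) x (by rw [Subgroup.orderOf_coe, ht]) hx)
    exact hg ▸ Subgroup.Normal.conj_mem inferInstance _ t.2 g
  have haN : a ∈ N := by
    have h : w * a * (w * a) = 1 := by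
      rw [← mul_assoc]
      nth_rw 2 [← inv_eq_self' D.hw]
      rw [D.inv, inv_mul_cancel]
    have hne : w * a ≠ 1 := fun h' => D.hwa (by
      rw [eq_inv_of_mul_eq_one_left h']; exact inv_mem (mem_zpowers a))
    have := mul_mem (inv_mem (hinvol w D.hw)) (hinvol _ (orderOf_two h hne))
    rwa [inv_mul_cancel_left] at this
  have hCN : ∀ h : G, Commute h (iota a) → h ∈ N := by
    intro h hh
    obtain ⟨o, p, ho, ho', hp, rfl⟩ := D.gen h hh
    refine mul_mem ?_ ?_
    · have h2 : w * (o * w⁻¹ * o⁻¹) ∈ N :=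
        mul_mem (hinvol w D.hw) (Subgroup.Normal.conj_mem inferInstance _
          (inv_mem (hinvol w D.hw)) o)
      rw [show w * (o * w⁻¹ * o⁻¹) = w * o * w⁻¹ * o⁻¹ by group, D.odd o ho ho'] at h2
      obtain ⟨j, hj⟩ : 2 ∣ orderOf o + 1 := (ho'.add_odd odd_one).two_dvd
      have e : o = (o * o) ^ j := by
        rw [← pow_two, ← pow_mul, ← hj, pow_succ, pow_orderOf_eq_one, one_mul]
      rw [e]
      refine pow_mem ?_ j
      have := inv_mem h2
      rwa [← mul_inv_rev, inv_inv] at this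
    · rcases hp with hp | hp
      · exact zpowers_le.mpr haN hp
      · have := mul_mem (hinvol w D.hw) (zpowers_le.mpr haN hp)
        rwa [← mul_assoc, mul_self_eq_one D.hw, one_mul] at this
  obtain ⟨S, hS⟩ := D.sylow_eq hG hconj
  have hSN : (S : Subgroup G) ≤ N := by
    rw [hS]
    rintro p (hp | hp)
    · exact zpowers_le.mpr haN hp
    · have := mul_mem (hinvol w D.hw) (zpowers_le.mpr haN hp)
      rwa [← mul_assoc, mul_self_eq_one D.hw, one_mul] at this
  set P : Sylow 2 N := S.subtype hSN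
  have hPS : (P : Subgroup N).map N.subtype = (S : Subgroup G) := by
    rw [Sylow.coe_subtype, Subgroup.subgroupOf_map_subtype, inf_eq_left.mpr hSN]
  have hfrat := Sylow.normalizer_sup_eq_top P
  rw [hPS] at hfrat
  rw [eq_top_iff, ← hfrat, sup_le_iff]
  refine ⟨fun n hn' => ?_, le_rfl⟩
  have hmem : ∀ {x : G}, x ∈ (S : Subgroup G) → n * x * n⁻¹ ∈ (S : Subgroup G) := fun hx =>
    (Subgroup.mem_normalizer_iff.mp hn' _).mp hx
  have haS : a ∈ (S : Subgroup G) := hS ▸ Or.inl (mem_zpowers a)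
  obtain ⟨k, hk⟩ := D.ha
  by_cases hk0 : k = 0
  swap
  · refine hCN n ?_
    have h1 := hS ▸ hmem haS
    rcases h1 with h1 | h1
    · have h2 := eq_iota (zpowers_le.mpr h1 (iota_mem _))
        (orderOf_iota (y := n * a * n⁻¹) (by rw [orderOf_conj_eq]; exact D.even))
      rw [iota_conj] at h2
      exact mul_inv_eq_iff_eq_mul.mp h2
    · have h2 : orderOf (n * a * n⁻¹) ∣ 2 := orderOf_dvd_of_pow_eq_one (by
        rw [pow_two]; exact out_twoSub D.hw D.inv h1)
      rw [orderOf_conj_eq, hk] at h2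
      have : 2 ^ (k + 1) ≤ 2 ^ 1 := Nat.le_of_dvd two_pos h2
      have := (Nat.pow_le_pow_iff_right (by omega)).mp this
      omega
  subst hk0
  have haz : iota a = a := iota_eq_self (by rw [hk]; rfl)
  have hwa : Commute w a := haz ▸ D.w_comm
  have hScomm : ∀ p ∈ (S : Subgroup G), ∀ q ∈ (S : Subgroup G), Commute p q := by
    have key : ∀ p ∈ (S : Subgroup G), Commute p a ∧ Commute p w := by
      intro p hp
      rw [hS] at hp
      rcases hp with hp | hp
      · exact ⟨(zpow_commute_of (Commute.refl a) hp).symm, (zpow_commute_of hwa hp).symm⟩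
      · have e : p = w * (w * p) := by rw [← mul_assoc, mul_self_eq_one D.hw, one_mul]
        rw [e]
        exact ⟨hwa.mul_left (zpow_commute_of (Commute.refl a) hp).symm,
          (Commute.refl w).mul_left (zpow_commute_of hwa hp).symm⟩
    intro p hp q hq
    rw [hS] at hq
    rcases hq with hq | hq
    · exact zpow_commute_of (key p hp).1 hq
    · have e : q = w * (w * q) := by rw [← mul_assoc, mul_self_eq_one D.hw, one_mul]
      rw [e]
      exact (key p hp).2.mul_right (zpow_commute_of (key p hp).1 hq)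
  have hinvS : ∀ x ∈ (S : Subgroup G), orderOf x = 2 → x = a ∨ x = w ∨ x = w * a := by
    intro x hx hx2
    rw [hS] at hx
    have key : ∀ y ∈ zpowers a, y = 1 ∨ y = a := by
      intro y hy
      by_cases hy1 : y = 1
      · exact Or.inl hy1
      · refine Or.inr ((eq_iota hy ?_).trans haz)
        have hd := orderOf_dvd_of_mem_zpowers hy
        rw [hk] at hd
        rcases (Nat.dvd_prime Nat.prime_two).mp (by simpa using hd) with h | h
        · exact absurd (orderOf_eq_one_iff.mp h) hy1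
        · exact h
    rcases hx with hx | hx
    · exact Or.inl ((key x hx).resolve_left (ne_one_of_two hx2))
    · rcases key _ hx with h | h
      · exact Or.inr (Or.inl (by rw [eq_inv_of_mul_eq_one_right h, inv_eq_self' D.hw]))
      · refine Or.inr (Or.inr ?_)
        rw [← h]
        rw [← mul_assoc, mul_self_eq_one D.hw, one_mul]
  -- the element `a` is moved inside `N`
  obtain ⟨g, hgN, hgS, hga⟩ : ∃ g ∈ N, g * a * g⁻¹ ∈ (S : Subgroup G) ∧ g * a * g⁻¹ ≠ a := by
    by_contra h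
    push Not at h
    refine isolated_false (hn.normal N) P (t := ⟨a, haN⟩) ?_ haS ?_
    · rw [Subgroup.orderOf_mk, hk]; rfl
    · intro g hg
      exact Subtype.ext (h g g.2 hg)
  set v := g * a * g⁻¹ with hv
  have hv2 : orderOf v = 2 := by rw [hv, orderOf_conj_eq, hk]; rfl
  have hCv : ∀ h : G, Commute h v → h ∈ N := by
    intro h hh
    have h1 : g⁻¹ * h * g ∈ N := hCN _ (by
      rw [haz]
      have := hh.map (MulAut.conj g⁻¹)
      rw [MulAut.conj_apply, MulAut.conj_apply, inv_inv] at this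
      rwa [hv, show g⁻¹ * (g * a * g⁻¹) * g = a by group] at this)
    have := Subgroup.Normal.conj_mem inferInstance _ h1 g
    rwa [show g * (g⁻¹ * h * g) * g⁻¹ = h by group] at this
  obtain ⟨h, hh, hhS⟩ := conj_into S (centralizer ({v} : Set G))
    (fun p hp => mem_cent_of_commute (hScomm p hp v hgS))
    (P := (S : Subgroup G).map (MulAut.conj g).toMonoidHom) (S.2.map _) (by
      rintro _ ⟨p, hp, rfl⟩
      exact mem_cent_of_commute ((hScomm p hp a haS).map (MulAut.conj g)))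
  set n₀ := h * g with hn₀
  have hn₀N : n₀ ∈ N := mul_mem (hCv h (commute_of_mem_cent hh)) hgN
  have hn₀S : ∀ p ∈ (S : Subgroup G), n₀ * p * n₀⁻¹ ∈ (S : Subgroup G) := fun p hp => by
    have := hhS _ ⟨p, hp, rfl⟩
    rw [hn₀, show h * g * p * (h * g)⁻¹ = h * (g * p * g⁻¹) * h⁻¹ by group]
    exact this
  have hn₀a : n₀ * a * n₀⁻¹ = v := by
    rw [hn₀, show h * g * a * (h * g)⁻¹ = h * v * h⁻¹ by rw [hv]; group,
      (commute_of_mem_cent hh).eq, mul_inv_cancel_right]
  have hv' : n₀ * v * n₀⁻¹ ≠ a := by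
    intro hswap
    obtain ⟨o, s, hos, hom, hsm, hoo, i, hi⟩ := exists_odd_two n₀
    have hN0 : n₀ ∈ normalizer ((S : Subgroup G) : Set G) := by
      have e : (S : Subgroup G).map (MulAut.conj n₀).toMonoidHom = (S : Subgroup G) :=
        Subgroup.eq_of_le_of_card_ge (by rintro _ ⟨p, hp, rfl⟩; exact hn₀S p hp)
          (by rw [Subgroup.card_map_of_injective (MulAut.conj n₀).injective])
      refine Subgroup.mem_normalizer_iff.mpr fun x => ⟨hn₀S x, fun hx => ?_⟩
      rw [← e] at hx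
      obtain ⟨y, hy, hxy⟩ := hx
      have := (MulAut.conj n₀).injective (a₂ := x) hxy
      rwa [← this]
    obtain ⟨h', hh', hh'S⟩ := conj_into S (normalizer ((S : Subgroup G) : Set G)) le_normalizer
      (isPGroup_zpowers hi) (zpowers_le.mpr (zpowers_le.mpr hN0 hsm))
    have hsS : s ∈ (S : Subgroup G) :=
      (Subgroup.mem_normalizer_iff.mp hh' s).mpr (hh'S s (mem_zpowers s))
    have hsfix : ∀ x ∈ (S : Subgroup G), n₀ * x * n₀⁻¹ = o * x * o⁻¹ := fun x hx => by
      rw [hos, show o * s * x * (o * s)⁻¹ = o * (s * x * s⁻¹) * o⁻¹ by group,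
        (hScomm s hsS x hx).eq, mul_inv_cancel_right]
    have h2 : Commute (o * o) a := by
      refine mul_inv_eq_iff_eq_mul.mp ?_
      rw [show o * o * a * (o * o)⁻¹ = o * (o * a * o⁻¹) * o⁻¹ by group, ← hsfix a haS, hn₀a,
        ← hsfix v hgS, hswap]
    obtain ⟨j, hj⟩ : 2 ∣ orderOf o + 1 := (hoo.add_odd odd_one).two_dvd
    have hoa : Commute o a := by
      have e : o = (o * o) ^ j := by
        rw [← pow_two, ← pow_mul, ← hj, pow_succ, pow_orderOf_eq_one, one_mul]
      rw [e]; exact h2.pow_left j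
    exact hga (by rw [← hn₀a, hsfix a haS, hoa.eq, mul_inv_cancel_right])
  have hv'2 : orderOf (n₀ * v * n₀⁻¹) = 2 := by rw [orderOf_conj_eq, hv2]
  have hv'ne : n₀ * v * n₀⁻¹ ≠ v := by
    intro h'
    nth_rw 2 [← hn₀a] at h'
    exact hga (mul_left_cancel (mul_right_cancel h'))
  have hn2 : orderOf (n * a * n⁻¹) = 2 := by rw [orderOf_conj_eq, hk]; rfl
  have hfin : ∀ m : G, m ∈ N → n * a * n⁻¹ = m * a * m⁻¹ → n ∈ N := by
    intro m hm he
    have h1 := hCN (m⁻¹ * n) (by
      rw [haz]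
      refine mul_inv_eq_iff_eq_mul.mp ?_
      rw [show m⁻¹ * n * a * (m⁻¹ * n)⁻¹ = m⁻¹ * (n * a * n⁻¹) * m by group, he]
      group)
    have := mul_mem hm h1
    rwa [mul_inv_cancel_left] at this
  have hA := hinvS _ (hmem haS) hn2
  have hB := hinvS v hgS hv2
  have hC := hinvS _ (hn₀S v hgS) hv'2
  have hcases : n * a * n⁻¹ = a ∨ n * a * n⁻¹ = v ∨ n * a * n⁻¹ = n₀ * v * n₀⁻¹ := by
    rcases hA with hA | hA | hA <;> rcases hB with hB | hB | hB <;>
      rcases hC with hC | hC | hC <;> grind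
  rcases hcases with h' | h' | h'
  · exact hfin 1 (one_mem _) (by rw [h', one_mul, inv_one, mul_one])
  · exact hfin n₀ hn₀N (h'.trans hn₀a.symm)
  · refine hfin (n₀ * n₀) (mul_mem hn₀N hn₀N) (h'.trans ?_)
    rw [← hn₀a]; group

theorem psl (hn : NoSolv G) (hconj : ∀ x y : G, orderOf x = 2 → orderOf y = 2 → IsConj x y) :
    ∃ (F : Type) (_ : Field F) (_ : Fintype F), 3 < Fintype.card F ∧ Odd (Fintype.card F) ∧
      Nonempty (G ≃* Matrix.ProjectiveSpecialLinearGroup (Fin 2) F) := by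
  haveI : Nontrivial G := ⟨⟨w, 1, ne_one_of_two D.hw⟩⟩
  haveI : IsSimpleGroup G := ⟨fun N hN => (em (N = ⊥)).imp_right
    fun h => haveI := hN; D.normal_eq_top hG hn hconj N h⟩
  have hna : ¬ IsMulCommutative G := fun h => top_ne_bot (α := Subgroup G)
    (hn ⊤ inferInstance (by
      haveI := Group.isSolvable_of_comm (fun a b : G => mul_comm' a b)
      infer_instance))
  obtain ⟨Q, R, h1, h2, h3, h4, h5, h6, h7⟩ := (D.setup hG hconj).concl
  have W : BSW7.Frame G Q R := ⟨h1, h2, h3, h4, h5, h6, h7⟩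
  have hR := W.D_ne_bot hna
  obtain ⟨F, iF, iFt, hF, he⟩ := BSW7.psl_of_frame hna W
  exact ⟨F, iF, iFt, by omega, by rw [hF, ← h4]; exact odd_two_mul_add_one _, he⟩

/-- Either the group is `PSL(2,q)`, or it has such a subgroup of index two. -/
theorem psl_or_index_two (hn : NoSolv G) (S : Sylow 2 G)
    (hS : (S : Subgroup G) = twoSub a w D.hw D.inv) (hwz : IsConj w (iota a)) :
    (∃ (F : Type) (_ : Field F) (_ : Fintype F), 3 < Fintype.card F ∧
      Nonempty (G ≃* Matrix.ProjectiveSpecialLinearGroup (Fin 2) F)) ∨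
    ∃ (M : Subgroup G) (u : G), M.Normal ∧ M.index = 2 ∧ u ∉ M ∧ orderOf u = 2 ∧
      ∃ (F : Type) (_ : Field F) (_ : Fintype F), 3 < Fintype.card F ∧ Odd (Fintype.card F) ∧
        Nonempty (M ≃* Matrix.ProjectiveSpecialLinearGroup (Fin 2) F) := by
  haveI : Fact (Nat.Prime 2) := ⟨Nat.prime_two⟩
  obtain ⟨k, hk⟩ := D.ha
  set u := w * a with hu
  have hww : w * w = 1 := mul_self_eq_one D.hw
  have huu : u * u = 1 := by
    rw [hu, ← mul_assoc]
    nth_rw 2 [← inv_eq_self' D.hw]
    rw [D.inv, inv_mul_cancel]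
  have hu2 : orderOf u = 2 := orderOf_two huu fun h => D.hwa (by
    rw [eq_inv_of_mul_eq_one_left h]; exact inv_mem (mem_zpowers a))
  -- involutions of `S`
  have hclass : ∀ x ∈ (S : Subgroup G), orderOf x = 2 →
      IsConj x (iota a) ∨ IsConj x u := by
    intro x hx hx2
    rw [hS] at hx
    rcases hx with hx | hx
    · exact Or.inl (isConj_iff.mpr ⟨1, by rw [eq_iota hx hx2, one_mul, inv_one, mul_one]⟩)
    · obtain ⟨j, hj⟩ := mem_zpowers_iff.mp hx
      have hxe : x = w * a ^ j := by rw [hj, ← mul_assoc, hww, one_mul]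
      have hshift : ∀ i e : ℤ, IsConj (w * a ^ (i + i + e)) (w * a ^ e) := fun i e => by
        refine isConj_iff.mpr ⟨a ^ i, ?_⟩
        have hswap : a ^ i * w = w * a ^ (-i) := by
          rw [zpow_neg, ← conj_inv_of_mem D.inv (zpow_mem_zpowers a i), ← mul_assoc, ← mul_assoc,
            hww, one_mul, inv_eq_self' D.hw]
        rw [← mul_assoc, hswap, mul_assoc, mul_assoc, ← zpow_neg, ← zpow_add, ← zpow_add]
        congr 2; omega
      rcases Int.even_or_odd j with ⟨i, rfl⟩ | ⟨i, rfl⟩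
      · left
        rw [hxe, show i + i = i + i + 0 by omega]
        refine (hshift i 0).trans ?_
        rwa [zpow_zero, mul_one]
      · right
        rw [hxe, show 2 * i + 1 = i + i + 1 by omega]
        have := hshift i 1
        rwa [zpow_one] at this
  have hinto : ∀ x : G, orderOf x = 2 → ∃ g : G, g * x * g⁻¹ ∈ (S : Subgroup G) := fun x hx => by
    obtain ⟨g, -, hg⟩ := conj_into S ⊤ le_top (isPGroup_zpowers (k := 1) (by rw [hx, pow_one]))
      le_top
    exact ⟨g, hg x (mem_zpowers x)⟩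
  by_cases huz : IsConj u (iota a)
  · left
    have hall : ∀ x : G, orderOf x = 2 → IsConj x (iota a) := fun x hx => by
      obtain ⟨g, hg⟩ := hinto x hx
      refine (isConj_iff.mpr ⟨g, rfl⟩).trans ?_
      rcases hclass _ hg (by rw [orderOf_conj_eq, hx]) with h | h
      · exact h
      · exact h.trans huz
    obtain ⟨F, i1, i2, h1, -, h2⟩ :=
      D.psl hG hn fun x y hx hy => (hall x hx).trans (hall y hy).symm
    exact ⟨F, i1, i2, h1, h2⟩
  right
  -- transfer
  have hinv2 : w * (a * a) * w⁻¹ = (a * a)⁻¹ :=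
    conj_inv_of_mem D.inv (mul_mem (mem_zpowers a) (mem_zpowers a))
  set Q := twoSub (a * a) w D.hw hinv2 with hQ
  have hsub : zpowers (a * a) ≤ zpowers a :=
    zpowers_le.mpr (mul_mem (mem_zpowers a) (mem_zpowers a))
  have hQS : Q ≤ (S : Subgroup G) := by
    rw [hS]; rintro p (hp | hp)
    · exact Or.inl (hsub hp)
    · exact Or.inr (hsub hp)
  have hQi : Q.relIndex (S : Subgroup G) = 2 := by
    have h1 := Solvable.card_mul_relIndex hQS
    have h2 : orderOf (a * a) = 2 ^ k := by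
      rw [← pow_two, orderOf_pow_of_dvd two_ne_zero (hk ▸ dvd_pow_self 2 (by omega)), hk,
        pow_succ, Nat.mul_div_cancel _ two_pos]
    rw [hQ, card_twoSub D.hw hinv2 (fun h => D.hwa (hsub h)), hS,
      card_twoSub D.hw D.inv D.hwa, h2, hk, pow_succ] at h1
    rw [hQ, hS]
    exact Nat.eq_of_mul_eq_mul_left (show 0 < 2 * 2 ^ k by positivity) (h1.trans (by ring))
  obtain ⟨M, hMn, hMi, huM⟩ := Involution.thompson_transfer S Q hQS hQi huu (fun g hg => by
    have hgu : IsConj u (g * u * g⁻¹) := isConj_iff.mpr ⟨g, rfl⟩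
    have hgu2 : orderOf (g * u * g⁻¹) = 2 := by rw [orderOf_conj_eq, hu2]
    rcases hg with hg | hg
    · exact huz (eq_iota (hsub hg) hgu2 ▸ hgu)
    · obtain ⟨j, hj⟩ := mem_zpowers_iff.mp hg
      refine huz (hgu.trans ((isConj_iff.mpr ⟨a ^ j, ?_⟩).trans hwz))
      have hswap : a ^ j * w = w * a ^ (-j) := by
        rw [zpow_neg, ← conj_inv_of_mem D.inv (zpow_mem_zpowers a j), ← mul_assoc, ← mul_assoc,
          hww, one_mul, inv_eq_self' D.hw]
      have he : g * u * g⁻¹ = w * a ^ (j + j) := by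
        rw [zpow_add, ← (Commute.refl a).mul_zpow, hj, ← mul_assoc w w, hww, one_mul]
      rw [he, ← mul_assoc, hswap, mul_assoc, mul_assoc, ← zpow_neg, ← zpow_add, ← zpow_add,
        show -j + (j + j + -j) = 0 by omega, zpow_zero, mul_one])
  haveI := hMn
  have hzw : iota a ∈ M ↔ w ∈ M := by
    obtain ⟨g, hg⟩ := isConj_iff.mp hwz
    rw [← hg, mul_assoc]
    exact ⟨fun h => by simpa [mul_assoc] using hMn.conj_mem _ h g⁻¹,
      fun h => by simpa [mul_assoc] using hMn.conj_mem _ h g⟩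
  have hmul := fun {x y : G} => Subgroup.mul_mem_iff_of_index_two (a := x) (b := y) hMi
  have hsq : a * a ∈ M := hmul.mpr Iff.rfl
  have hk0 : k ≠ 0 := by
    rintro rfl
    rw [iota_eq_self (by rw [hk]; rfl)] at hzw
    exact huM (hmul.mpr hzw.symm)
  have hzm : iota a ∈ zpowers (a * a) := by
    obtain ⟨k', rfl⟩ : ∃ k', k = k' + 1 := ⟨k - 1, by omega⟩
    rw [iota, hk, pow_succ 2 (k' + 1), Nat.mul_div_cancel _ two_pos, pow_succ, mul_comm,
      pow_mul, pow_two]
    exact npow_mem_zpowers _ _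
  have hzM : iota a ∈ M := zpowers_le.mpr hsq hzm
  have hwM : w ∈ M := hzw.mp hzM
  have haM : a ∉ M := fun h => huM (mul_mem hwM h)
  have hpar : ∀ p ∈ zpowers a, p ∈ M → p ∈ zpowers (a * a) := by
    intro p hp hpM
    obtain ⟨j, rfl⟩ := mem_zpowers_iff.mp hp
    rcases Int.even_or_odd j with ⟨i, rfl⟩ | ⟨i, rfl⟩
    · rw [zpow_add, ← (Commute.refl a).mul_zpow]; exact zpow_mem_zpowers _ i
    · refine absurd ?_ haM
      rw [zpow_add, zpow_one, two_mul, zpow_add, ← (Commute.refl a).mul_zpow] at hpM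
      have := mul_mem (inv_mem (zpow_mem hsq i)) hpM
      rwa [inv_mul_cancel_left] at this
  have hoddM : ∀ o : G, Odd (orderOf o) → o ∈ M := fun o ho => by
    obtain ⟨j, hj⟩ : 2 ∣ orderOf o + 1 := (ho.add_odd odd_one).two_dvd
    have e : o = (o * o) ^ j := by
      rw [← pow_two, ← pow_mul, ← hj, pow_succ, pow_orderOf_eq_one, one_mul]
    rw [e]; exact pow_mem (hmul.mpr Iff.rfl) j
  set b : M := ⟨a * a, hsq⟩
  set v : M := ⟨w, hwM⟩
  have hb : ((iota b : M) : G) = iota a := by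
    rw [subgroup_iota]
    exact (eq_iota hzm D.hz).symm
  have hDM : Dih b v := by
    refine ⟨⟨k - 1, ?_⟩, by rw [Subgroup.orderOf_mk, D.hw], Subtype.ext hinv2, ?_, ?_, ?_⟩
    · rw [Subgroup.orderOf_mk, ← pow_two, orderOf_pow_of_dvd two_ne_zero
        (hk ▸ dvd_pow_self 2 (by omega)), hk, pow_succ, Nat.mul_div_cancel _ two_pos,
        show k - 1 + 1 = k by omega]
    · intro h
      obtain ⟨j, hj⟩ := mem_zpowers_iff.mp h
      have h' := congrArg Subtype.val hj
      rw [Subgroup.coe_zpow] at h'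
      exact D.hwa (hsub (mem_zpowers_iff.mpr ⟨j, h'⟩))
    · intro x hx hxo
      refine Subtype.ext ?_
      have hx' : Commute (x : G) (iota a) := hb ▸ hx.map M.subtype
      exact D.odd x hx' (by rwa [Subgroup.orderOf_coe])
    · intro h hh
      have hh' : Commute (h : G) (iota a) := hb ▸ hh.map M.subtype
      obtain ⟨o, p, ho, ho', hp, hop⟩ := D.gen h hh'
      have hoM := hoddM o ho'
      have hpM : p ∈ M := by
        have := mul_mem (inv_mem hoM) (hop ▸ h.2)
        rwa [inv_mul_cancel_left] at this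
      refine ⟨⟨o, hoM⟩, ⟨p, hpM⟩, ?_, by rwa [Subgroup.orderOf_mk], ?_, Subtype.ext hop⟩
      · exact Subtype.ext (by simpa [hb] using ho.eq)
      · rcases hp with hp | hp
        · obtain ⟨i, hi⟩ := mem_zpowers_iff.mp (hpar p hp hpM)
          exact Or.inl (mem_zpowers_iff.mpr ⟨i, Subtype.ext (by simpa [b] using hi)⟩)
        · obtain ⟨i, hi⟩ := mem_zpowers_iff.mp (hpar _ hp (mul_mem hwM hpM))
          exact Or.inr (mem_zpowers_iff.mpr ⟨i, Subtype.ext (by simpa [b, v] using hi)⟩)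
  have hclassM : ∀ x : M, orderOf x = 2 → IsConj x (iota b) := by
    intro x hx
    have hx' : orderOf (x : G) = 2 := by rwa [Subgroup.orderOf_coe]
    obtain ⟨g, hg⟩ := hinto x hx'
    have hgM : g * (x : G) * g⁻¹ ∈ M := hMn.conj_mem _ x.2 g
    rcases hclass _ hg (by rw [orderOf_conj_eq, hx']) with h | h
    · obtain ⟨g', hg'⟩ := isConj_iff.mp ((isConj_iff.mpr ⟨g, rfl⟩).trans h : IsConj (x : G) (iota a))
      by_cases hgM' : g' ∈ M
      · exact isConj_iff.mpr ⟨⟨g', hgM'⟩, Subtype.ext (hg'.trans hb.symm)⟩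
      · refine isConj_iff.mpr ⟨⟨a * g', hmul.mpr (by simp [haM, hgM'])⟩, Subtype.ext ?_⟩
        show a * g' * (x : G) * (a * g')⁻¹ = ((iota b : M) : G)
        rw [hb, show a * g' * (x : G) * (a * g')⁻¹ = a * (g' * x * g'⁻¹) * a⁻¹ by group, hg',
          (iota_commute (Commute.refl a)).symm.eq, mul_inv_cancel_right]
    · obtain ⟨g', hg'⟩ := isConj_iff.mp h
      exact absurd (hg' ▸ hMn.conj_mem _ hgM g') huM
  obtain ⟨F, i1, i2, h1, h2, h3⟩ := hDM.psl (hG.subgroup M) (hn.normal M)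
    fun x y hx hy => (hclassM x hx).trans (hclassM y hy).symm
  exact ⟨M, u, hMn, hMi, huM, hu2, F, i1, i2, h1, h2, h3⟩

end Dih

end Cfsg.Agent.Normalisers5
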