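import Cfsg.Agent.Normalisers5.TwoGroup
import Cfsg.Agent.Normalisers5.Dihedral
import Cfsg.Agent.Lib.Involution.Dihedral

/-!
# A noncentral involution in a Sylow subgroup

If some involution is not central in a Sylow `2`-subgroup containing it, the Sylow subgroups are
dihedral and the centraliser of the central involution is of dihedral type.
-/

set_option autoImplicit false
set_option linter.style.haveILetI false
set_option linter.unusedSectionVars false

namespace Cfsg.Agent.Normalisers5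

open Subgroup

variable {G : Type*} [Group G] [Finite G]

/-- The configuration handled by the dihedral stage. -/
def DihCase (G : Type*) [Group G] [Finite G] : Prop :=
  ∃ (a w : G) (D : Dih a w) (S : Sylow 2 G),
    (S : Subgroup G) = twoSub a w D.hw D.inv ∧ IsConj w (iota a)

theorem exists_sylow_conj_mem (S : Sylow 2 G) (g : G) :
    ∃ S' : Sylow 2 G, ∀ x : G, x ∈ (S' : Subgroup G) ↔ g * x * g⁻¹ ∈ (S : Subgroup G) := by
  refine ⟨g⁻¹ • S, fun x => ?_⟩
  rw [Sylow.coe_subgroup_smul]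
  constructor
  · rintro ⟨y, hy, rfl⟩
    show g * (g⁻¹ * y * g⁻¹⁻¹) * g⁻¹ ∈ _
    rwa [show g * (g⁻¹ * y * g⁻¹⁻¹) * g⁻¹ = y by group]
  · intro h
    exact ⟨_, h, show g⁻¹ * (g * x * g⁻¹) * g⁻¹⁻¹ = x by group⟩

/-- An involution central in a Sylow subgroup is central in every other one containing it which has
a central involution in common with the first. -/
theorem central_of_common (hG : Hyp G) (S S' : Sylow 2 G) {j w : G} (hj : orderOf j = 2)
    (hjS : ∀ p ∈ (S : Subgroup G), Commute p j) (hjS' : ∀ p ∈ (S' : Subgroup G), Commute p j)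
    (hwS : w ∈ (S : Subgroup G)) (hwS' : w ∈ (S' : Subgroup G))
    (hc : ∀ p ∈ (S' : Subgroup G), Commute p w) : ∀ p ∈ (S : Subgroup G), Commute p w := by
  haveI : Fact (Nat.Prime 2) := ⟨Nat.prime_two⟩
  obtain ⟨h, hh, hhS⟩ := conj_into S (centralizer ({j} : Set G))
    (fun p hp => mem_cent_of_commute (hjS p hp)) S'.2
    (fun p hp => mem_cent_of_commute (hjS' p hp))
  obtain ⟨o, ho, s, hs, hos⟩ := decomp hG hj S hjS (commute_of_mem_cent hh).inv_left
  have hsub : (S' : Subgroup G).map (MulAut.conj o⁻¹).toMonoidHom ≤ (S : Subgroup G) := by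
    rintro _ ⟨p, hp, rfl⟩
    have h1 := hhS p hp
    have he : o⁻¹ * p * o⁻¹⁻¹ = s * (h * p * h⁻¹) * s⁻¹ := by
      rw [show h = s⁻¹ * o⁻¹ by rw [← mul_inv_rev, ← hos, inv_inv]]; group
    show o⁻¹ * p * o⁻¹⁻¹ ∈ _
    rw [he]; exact mul_mem (mul_mem hs h1) (inv_mem hs)
  have heq : (S' : Subgroup G).map (MulAut.conj o⁻¹).toMonoidHom = (S : Subgroup G) :=
    Subgroup.eq_of_le_of_card_ge hsub (by
      rw [Subgroup.card_map_of_injective (MulAut.conj o⁻¹).injective, S.card_eq_multiplicity,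
        S'.card_eq_multiplicity])
  have hv : o⁻¹ * w * o⁻¹⁻¹ ∈ (S : Subgroup G) := hsub ⟨w, hwS', rfl⟩
  have hwo : Commute o w := by
    have hcS : o⁻¹ * w * o⁻¹⁻¹ * w⁻¹ ∈ (S : Subgroup G) := mul_mem hv (inv_mem hwS)
    have hcO : o⁻¹ * w * o⁻¹⁻¹ * w⁻¹ ∈ oddSub hG hj := by
      rw [show o⁻¹ * w * o⁻¹⁻¹ * w⁻¹ = o⁻¹ * (w * o * w⁻¹) by group]
      exact mul_mem (inv_mem ho) (conj_mem_oddSub hG hj (hjS w hwS) ho)
    have h1 := eq_one_of_odd_of_mem S.2 hcS hcO.2
    rw [mul_inv_eq_one, inv_inv, mul_assoc, inv_mul_eq_iff_eq_mul] at h1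
    exact h1.symm
  intro p hp
  rw [← heq] at hp
  obtain ⟨q, hq, rfl⟩ := hp
  show Commute (o⁻¹ * q * o⁻¹⁻¹) w
  rw [inv_inv]
  exact (hwo.inv_left.mul_left (hc q hq)).mul_left hwo

theorem dih_of_conj_central (hG : Hyp G) (S : Sylow 2 G) {w : G} (hwS : w ∈ (S : Subgroup G))
    (hw : orderOf w = 2) (hwc : ¬ ∀ p ∈ (S : Subgroup G), Commute p w) (S' : Sylow 2 G)
    (hwS' : w ∈ (S' : Subgroup G)) (hc' : ∀ p ∈ (S' : Subgroup G), Commute p w) :
    DihCase G := by
  haveI : Fact (Nat.Prime 2) := ⟨Nat.prime_two⟩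
  obtain ⟨h, hh, hhS⟩ := conj_into S' (centralizer ({w} : Set G))
    (fun p hp => mem_cent_of_commute (hc' p hp))
    (P := (S : Subgroup G) ⊓ centralizer ({w} : Set G)) (S.2.to_le inf_le_left) inf_le_right
  obtain ⟨S₁, hS₁⟩ := exists_sylow_conj_mem S' h
  have hfix : h * w * h⁻¹ = w := by rw [(commute_of_mem_cent hh).eq, mul_inv_cancel_right]
  have hwS₁ : w ∈ (S₁ : Subgroup G) := (hS₁ w).mpr (by rw [hfix]; exact hwS')
  have hc₁ : ∀ p ∈ (S₁ : Subgroup G), Commute p w := by
    intro p hp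
    have h1 := (hc' _ ((hS₁ p).mp hp)).map (MulAut.conj h⁻¹)
    rw [MulAut.conj_apply, MulAut.conj_apply, inv_inv] at h1
    rwa [show h⁻¹ * (h * p * h⁻¹) * h = p by group,
      show h⁻¹ * w * h = w by nth_rw 1 [← hfix]; group] at h1
  have hD : ∀ d ∈ (S : Subgroup G), Commute d w → d ∈ (S₁ : Subgroup G) := fun d hd hdw =>
    (hS₁ d).mpr (hhS d ⟨hd, mem_cent_of_commute hdw⟩)
  have hexp : ∀ d ∈ (S : Subgroup G), Commute d w → d * d = 1 := by
    intro d hd hdw
    by_contra hd2
    exact hwc (central_of_common hG S S₁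
      (orderOf_iota (even_of_mem S.2 hd (fun h1 => hd2 (by rw [h1, one_mul]))))
      (iota_central hG S.2 hd hd2) (iota_central hG S₁.2 (hD d hd hdw) hd2) hwS hwS₁ hc₁)
  have hex : ∃ y ∈ (S : Subgroup G), y * y ≠ 1 := by
    by_contra hcon
    push Not at hcon
    refine hwc fun p hp => ?_
    have h1 : p * w = (p * w)⁻¹ := eq_inv_of_mul_eq_one_left (hcon _ (mul_mem hp hwS))
    rwa [mul_inv_rev, inv_eq_self' hw, inv_eq_of_mul_eq_one_left (hcon p hp)] at h1
  obtain ⟨A, hAS, hcomm, hinv, hwA, hbig, hcov⟩ := gendih hG S.2 hwS hw hexp hex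
  have hcentA : ∀ z ∈ A, orderOf z = 2 → ∀ p ∈ (S : Subgroup G), Commute p z := by
    intro z hz hz2 p hp
    have hwz : Commute w z := by
      have h1 := hinv z hz
      rw [inv_eq_self' hz2] at h1
      exact mul_inv_eq_iff_eq_mul.mp h1
    rcases hcov p hp with hp' | hp'
    · exact hcomm p hp' z hz
    · have e : p = w * (w * p) := by rw [← mul_assoc, mul_self_eq_one hw, one_mul]
      rw [e]; exact hwz.mul_left (hcomm _ hp' z hz)
  obtain ⟨g, hg⟩ := sylow_conj S S₁
  have hunique : ∀ z₁ ∈ A, ∀ z₂ ∈ A, orderOf z₁ = 2 → orderOf z₂ = 2 → z₁ = z₂ := by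
    intro z₁ h1 z₂ h2 o1 o2
    by_contra hne
    have hnot : ∀ z ∈ A, orderOf z = 2 →
        w * (g⁻¹ * z * g) ∈ A ∧ g⁻¹ * z * g ∉ A ∧ orderOf (g⁻¹ * z * g) = 2 := by
      intro z hz hz2
      have hzS₁ : z ∈ (S₁ : Subgroup G) :=
        hD z (hAS hz) (hcentA z hz hz2 w hwS).symm
      have hm := (hg z).mp hzS₁
      have ho : orderOf (g⁻¹ * z * g) = 2 := by
        have := orderOf_conj_eq g⁻¹ z
        rw [inv_inv] at this
        rw [this, hz2]
      have hnA : g⁻¹ * z * g ∉ A := by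
        intro hA'
        refine hwc (central_of_common hG S S₁ hz2 (hcentA z hz hz2) (fun p hp => ?_) hwS hwS₁ hc₁)
        have h3 := (hcentA _ hA' ho _ ((hg p).mp hp)).map (MulAut.conj g)
        rw [MulAut.conj_apply, MulAut.conj_apply] at h3
        rwa [show g * (g⁻¹ * p * g) * g⁻¹ = p by group,
          show g * (g⁻¹ * z * g) * g⁻¹ = z by group] at h3
      exact ⟨(hcov _ hm).resolve_left hnA, hnA, ho⟩
    obtain ⟨a1, b1, c1⟩ := hnot z₁ h1 o1
    obtain ⟨a2, b2, c2⟩ := hnot z₂ h2 o2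
    have o12 : orderOf (z₁ * z₂) = 2 := by
      refine orderOf_two ?_ fun h => hne (by
        rw [eq_inv_of_mul_eq_one_left h, inv_eq_self' o2])
      rw [Commute.mul_mul_mul_comm (hcomm z₂ h2 z₁ h1), mul_self_eq_one o1, mul_self_eq_one o2,
        one_mul]
    refine (hnot (z₁ * z₂) (mul_mem h1 h2) o12).2.1 ?_
    have e : g⁻¹ * (z₁ * z₂) * g = (w * (g⁻¹ * z₁ * g))⁻¹ * (w * (g⁻¹ * z₂ * g)) := by
      rw [mul_inv_rev, inv_eq_self' c1, mul_assoc (g⁻¹ * z₁ * g), ← mul_assoc w⁻¹, inv_mul_cancel,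
        one_mul]
      group
    rw [e]; exact mul_mem (inv_mem a1) a2
  -- `A` is cyclic
  classical
  haveI := Fintype.ofFinite G
  obtain ⟨a, ha, hmax⟩ := Finset.exists_max_image (Finset.univ.filter (· ∈ A)) orderOf
    ⟨1, by simp [one_mem]⟩
  simp only [Finset.mem_filter, Finset.mem_univ, true_and] at ha hmax
  obtain ⟨y, hy, hy2⟩ := hex
  have habig : a * a ≠ 1 := by
    intro h1
    have hle := hmax y (hbig y hy hy2)
    have h2 : orderOf a ≤ 2 :=
      Nat.le_of_dvd two_pos (orderOf_dvd_of_pow_eq_one (by rw [pow_two, h1]))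
    obtain ⟨k, hk⟩ := even_orderOf_of_mem S.2 hy (fun h => hy2 (by rw [h, one_mul]))
    rcases k with _ | k
    · exact hy2 (mul_self_eq_one hk)
    · have h4 : 2 ^ 2 ≤ 2 ^ (k + 1 + 1) := Nat.pow_le_pow_right two_pos (by omega)
      omega
  have ha1 : a ≠ 1 := fun h => habig (by rw [h, one_mul])
  have hae : Even (orderOf a) := even_of_mem S.2 (hAS ha) ha1
  have hcyc : ∀ (n : ℕ) (b : G), orderOf b = n → b ∈ A → b ∈ zpowers a := by
    intro n
    induction n using Nat.strong_induction_on with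
    | _ n ih =>
      intro b hbn hb
      by_cases hb1 : b = 1
      · rw [hb1]; exact one_mem _
      have hbe := even_of_mem S.2 (hAS hb) hb1
      have hbb : orderOf (b * b) = orderOf b / 2 := by
        rw [← pow_two, orderOf_pow_of_dvd two_ne_zero hbe.two_dvd]
      obtain ⟨j, hj⟩ := mem_zpowers_iff.mp (ih (orderOf (b * b))
        (by rw [hbb, ← hbn]; exact Nat.div_lt_self (orderOf_pos b) one_lt_two) (b * b) rfl
        (mul_mem hb hb))
      rcases Int.even_or_odd j with ⟨i, rfl⟩ | hodd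
      · set c := b * (a ^ i)⁻¹ with hc
        have hcA : c ∈ A := mul_mem hb (inv_mem (zpow_mem ha i))
        have hcc : c * c = 1 := by
          rw [hc, Commute.mul_mul_mul_comm (hcomm _ (inv_mem (zpow_mem ha i)) b hb), ← hj,
            zpow_add]
          group
        have hbc : b = c * a ^ i := by rw [hc, inv_mul_cancel_right]
        rw [hbc]
        refine mul_mem ?_ (zpow_mem_zpowers a i)
        by_cases hc1 : c = 1
        · rw [hc1]; exact one_mem _
        · rw [hunique c hcA (iota a) (zpowers_le.mpr ha (iota_mem a)) (orderOf_two hcc hc1)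
            (orderOf_iota hae)]
          exact iota_mem a
      · exfalso
        have hcopr : orderOf (a ^ j) = orderOf a := by
          obtain ⟨m, hm⟩ := even_orderOf_of_mem S.2 (hAS ha) ha1
          have h1 : (a ^ j) ^ (orderOf a : ℤ) = 1 := by
            rw [← zpow_mul, mul_comm, zpow_mul, zpow_natCast, pow_orderOf_eq_one, one_zpow]
          obtain ⟨i, -, hi⟩ := (Nat.dvd_prime_pow Nat.prime_two).mp (hm ▸
            orderOf_dvd_of_pow_eq_one (by rw [← zpow_natCast]; exact h1) :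
              orderOf (a ^ j) ∣ 2 ^ (m + 1))
          by_contra hne
          have hlt : i ≤ m := by
            by_contra hgt
            refine hne ?_
            have : orderOf (a ^ j) ∣ orderOf a := orderOf_dvd_of_mem_zpowers (zpow_mem_zpowers a j)
            rw [hi, hm] at this ⊢
            exact Nat.dvd_antisymm this (pow_dvd_pow 2 (by omega))
          have h2 : (a ^ j) ^ (2 ^ m) = 1 :=
            orderOf_dvd_iff_pow_eq_one.mp (hi ▸ pow_dvd_pow 2 hlt)
          rw [← zpow_natCast, ← zpow_mul, ← orderOf_dvd_iff_zpow_eq_one, hm] at h2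
          push_cast at h2
          rw [pow_succ', mul_comm j] at h2
          have : (2 : ℤ) ∣ j := by
            refine Int.dvd_of_mul_dvd_mul_right (pow_ne_zero m two_ne_zero) ?_
            rwa [mul_comm j]
          exact Int.not_even_iff_odd.mpr hodd (even_iff_two_dvd.mpr this)
        rw [hj, hbb] at hcopr
        have := hmax b hb
        have := orderOf_pos a
        omega
  have hA : ∀ b, b ∈ A ↔ b ∈ zpowers a :=
    fun b => ⟨hcyc _ b rfl, fun hb => zpowers_le.mpr ha hb⟩
  have hza : orderOf (iota a) = 2 := orderOf_iota hae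
  have hSc := hcentA (iota a) ((hA _).mpr (iota_mem a)) hza
  have D : Dih a w := by
    refine ⟨even_orderOf_of_mem S.2 (hAS ha) ha1, hw, hinv a ha, fun h => hwA ((hA w).mpr h), ?_, ?_⟩
    · refine (dichotomy hG hza hw (hSc w hwS)).resolve_left fun heq => habig ?_
      have hwa : Commute a w :=
        commute_of_mem_cent (heq ▸ mem_cent_of_commute (hSc a (hAS ha)))
      exact hexp a (hAS ha) hwa
    · intro x hx
      obtain ⟨o, ho, s, hs, rfl⟩ := decomp hG hza S hSc hx
      exact ⟨o, s, ho.1, ho.2, (hcov s hs).imp (hA _).mp (hA _).mp, rfl⟩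
  refine ⟨a, w, D, S, ?_, ?_⟩
  · ext p
    rw [mem_twoSub, ← hA, ← hA]
    refine ⟨hcov p, ?_⟩
    rintro (hp | hp)
    · exact hAS hp
    · have := mul_mem hwS (hAS hp)
      rwa [← mul_assoc, mul_self_eq_one hw, one_mul] at this
  · refine isConj_iff.mpr ⟨g⁻¹, ?_⟩
    rw [inv_inv]
    have hm := (hg w).mp hwS₁
    have ho : orderOf (g⁻¹ * w * g) = 2 := by
      have := orderOf_conj_eq g⁻¹ w
      rw [inv_inv] at this
      rw [this, hw]
    have hcen : ∀ p ∈ (S : Subgroup G), Commute p (g⁻¹ * w * g) := by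
      intro p hp
      have h1 := (hc₁ (g * p * g⁻¹) ((hg _).mpr (by
        rwa [show g⁻¹ * (g * p * g⁻¹) * g = p by group]))).map (MulAut.conj g⁻¹)
      rw [MulAut.conj_apply, MulAut.conj_apply, inv_inv] at h1
      rwa [show g⁻¹ * (g * p * g⁻¹) * g = p by group] at h1
    rcases hcov _ hm with h1 | h1
    · exact eq_iota ((hA _).mp h1) ho
    · exfalso
      have hca : Commute (w * (g⁻¹ * w * g)) a := hcomm _ h1 a ha
      have hwa : Commute a w := by
        have := hca.symm.mul_right (hcen a (hAS ha))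
        rwa [mul_assoc, mul_self_eq_one ho, mul_one] at this
      exact habig (hexp a (hAS ha) hwa)

/-- If no involution is central in one Sylow subgroup and not in another, all involutions of Sylow
subgroups are central. -/
theorem central_of_closed (hG : Hyp G) (hn : NoSolv G)
    (H2 : ∀ (S S' : Sylow 2 G) (w : G), orderOf w = 2 → w ∈ (S : Subgroup G) →
      w ∈ (S' : Subgroup G) → (∀ p ∈ (S' : Subgroup G), Commute p w) →
      ∀ p ∈ (S : Subgroup G), Commute p w)
    (S : Sylow 2 G) {w : G} (hwS : w ∈ (S : Subgroup G)) (hw : orderOf w = 2) :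
    ∀ p ∈ (S : Subgroup G), Commute p w := by
  haveI : Fact (Nat.Prime 2) := ⟨Nat.prime_two⟩
  by_contra hwc
  let IsE : G → Prop := fun e =>
    orderOf e = 2 ∧ e ∈ (S : Subgroup G) ∧ ∀ p ∈ (S : Subgroup G), Commute p e
  obtain ⟨e₁, he₁⟩ : ∃ e, IsE e := by
    haveI : Nontrivial (S : Subgroup G) :=
      (Subgroup.nontrivial_iff_exists_ne_one _).mpr ⟨w, hwS, ne_one_of_two hw⟩
    haveI := S.2.center_nontrivial
    obtain ⟨c, hc⟩ := exists_ne (1 : center (S : Subgroup G))
    have hc1 : ((c : (S : Subgroup G)) : G) ≠ 1 := fun h => hc (Subtype.ext (Subtype.ext h))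
    refine ⟨_, orderOf_iota (even_of_mem S.2 (c : (S : Subgroup G)).2 hc1),
      zpowers_le.mpr (c : (S : Subgroup G)).2 (iota_mem _), fun p hp => ?_⟩
    exact (iota_commute (congrArg Subtype.val
      (Subgroup.mem_center_iff.mp c.2 ⟨p, hp⟩)).symm).symm
  have hconjE : ∀ e, IsE e → ∀ g : G, g * e * g⁻¹ ∈ (S : Subgroup G) → IsE (g * e * g⁻¹) := by
    intro e he g hg
    obtain ⟨S', hS'⟩ := exists_sylow_conj_mem S g⁻¹
    refine ⟨by rw [orderOf_conj_eq, he.1], hg, H2 S S' _ (by rw [orderOf_conj_eq, he.1]) hg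
      ((hS' _).mpr (by rw [inv_inv, show g⁻¹ * (g * e * g⁻¹) * g = e by group]; exact he.2.1))
      fun p hp => ?_⟩
    have h1 := (he.2.2 _ ((hS' p).mp hp)).map (MulAut.conj g)
    rw [MulAut.conj_apply, MulAut.conj_apply, inv_inv] at h1
    rwa [show g * (g⁻¹ * p * g) * g⁻¹ = p by group] at h1
  obtain ⟨e₂, he₂, hne⟩ : ∃ e, IsE e ∧ e ≠ e₁ := by
    by_contra h
    push Not at h
    exact isolated_false hn S he₁.1 he₁.2.1 fun g hg => h _ (hconjE e₁ he₁ g hg)
  -- `2`-groups through a central involution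
  have hin : ∀ e, IsE e → ∀ P : Subgroup G, IsPGroup 2 P → e ∈ P → ∀ p ∈ P, Commute p e := by
    intro e he P hP heP p hp
    obtain ⟨S', hS'⟩ := hP.exists_le_sylow
    exact H2 S' S e he.1 (hS' heP) he.2.1 he.2.2 p (hS' hp)
  have htwo : ∀ {f : G} (hf : orderOf f = 2), (∀ x, Commute x f → Odd (orderOf x) → x = 1) →
      IsPGroup 2 (centralizer ({f} : Set G)) := by
    intro f hf hO
    refine IsPGroup.iff_orderOf.mpr fun ⟨g, hg⟩ => ?_
    obtain ⟨o, s, hos, hom, -, hoo, k, hk⟩ := exists_odd_two g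
    have ho1 : o = 1 := hO o (commute_of_mem_cent (zpowers_le.mpr hg hom)) hoo
    exact ⟨k, by rw [Subgroup.orderOf_mk, hos, ho1, one_mul, hk]⟩
  have hwnot : ∀ e, IsE e → ¬ centralizer ({e} : Set G) = centralizer ({w} : Set G) :=
    fun e he h => hwc fun p hp => commute_of_mem_cent (h ▸ mem_cent_of_commute (he.2.2 p hp))
  -- the centraliser of an involution of `S` centralises the central involutions
  have hcentral : ∀ f, IsE f → ∀ e, IsE e →
      centralizer ({f} : Set G) ≤ centralizer ({e} : Set G) := by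
    intro f hf e he
    by_cases hO : ∀ x, Commute x f → Odd (orderOf x) → x = 1
    · exact fun g hg => mem_cent_of_commute (hin e he _ (htwo hf.1 hO)
        (mem_cent_of_commute (hf.2.2 e he.2.1)) g hg)
    push Not at hO
    obtain ⟨x, hxf, hxo, hx1⟩ := hO
    rcases dichotomy hG hf.1 he.1 (hf.2.2 e he.2.1) with h | h
    · exact h.symm.le
    exfalso
    have hwi : w * x * w⁻¹ = x⁻¹ := ((dichotomy hG hf.1 hw (hf.2.2 w hwS)).resolve_left
      (fun h' => hwnot f hf h'.symm)) x hxf hxo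
    have hewc : Commute w e := he.2.2 w hwS
    have hxc : Commute x (e * w) := by
      have h1 : e * w * x * (e * w)⁻¹ = x := by
        rw [show e * w * x * (e * w)⁻¹ = e * (w * x * w⁻¹) * e⁻¹ by group, hwi, ← conj_inv,
          h x hxf hxo, inv_inv]
      exact (mul_inv_eq_iff_eq_mul.mp h1).symm
    have hew : orderOf (e * w) = 2 := by
      refine orderOf_two ?_ fun h1 => hwnot e he ?_
      · rw [Commute.mul_mul_mul_comm hewc, mul_self_eq_one he.1, mul_self_eq_one hw, one_mul]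
      · rw [eq_inv_of_mul_eq_one_left h1, inv_eq_self' hw]
    have heq := cent_eq_of_odd hG hf.1 hew hxf hxc hxo hx1
    refine hwc fun p hp => ?_
    have h1 : Commute p (e * w) :=
      commute_of_mem_cent (heq.symm ▸ mem_cent_of_commute (hf.2.2 p hp))
    have h2 := (he.2.2 p hp).inv_right.mul_right h1
    rwa [inv_mul_cancel_left] at h2
  have hnoncentral : ∀ f ∈ (S : Subgroup G), orderOf f = 2 →
      ¬ (∀ p ∈ (S : Subgroup G), Commute p f) → ∀ e, IsE e →
      centralizer ({f} : Set G) ≤ centralizer ({e} : Set G) := by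
    intro f hfS hf hfc e he g hg
    refine mem_cent_of_commute
      (hin e he _ (htwo hf fun x hxf hxo => ?_) (mem_cent_of_commute (he.2.2 f hfS).symm) g hg)
    by_contra hx1
    have hbad : ∀ e', IsE e' → ¬ centralizer ({e'} : Set G) = centralizer ({f} : Set G) :=
      fun e' he' h => hfc fun p hp => commute_of_mem_cent (h ▸ mem_cent_of_commute (he'.2.2 p hp))
    have hi : ∀ e', IsE e' → e' * x * e'⁻¹ = x⁻¹ := fun e' he' =>
      ((dichotomy hG hf he'.1 (he'.2.2 f hfS).symm).resolve_left (hbad e' he')) x hxf hxo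
    have h12 : IsE (e₁ * e₂) := by
      refine ⟨orderOf_two ?_ fun h => hne ?_, mul_mem he₁.2.1 he₂.2.1,
        fun p hp => (he₁.2.2 p hp).mul_right (he₂.2.2 p hp)⟩
      · rw [Commute.mul_mul_mul_comm (he₁.2.2 e₂ he₂.2.1), mul_self_eq_one he₁.1,
          mul_self_eq_one he₂.1, one_mul]
      · rw [eq_inv_of_mul_eq_one_right h, inv_eq_self' he₁.1]
    refine hbad _ h12 (cent_eq_of_odd hG hf h12.1 hxf ?_ hxo hx1)
    have h1 : e₁ * e₂ * x * (e₁ * e₂)⁻¹ = x := by
      rw [show e₁ * e₂ * x * (e₁ * e₂)⁻¹ = e₁ * (e₂ * x * e₂⁻¹) * e₁⁻¹ by group, hi e₂ he₂,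
        ← conj_inv, hi e₁ he₁, inv_inv]
    exact (mul_inv_eq_iff_eq_mul.mp h1).symm
  have hall : ∀ f, orderOf f = 2 → Commute f e₁ →
      centralizer ({f} : Set G) ≤ centralizer ({e₁} : Set G) := by
    intro f hf hfe
    obtain ⟨h, hh, hhS⟩ := conj_into S (centralizer ({e₁} : Set G))
      (fun p hp => mem_cent_of_commute (he₁.2.2 p hp)) (isPGroup_zpowers (k := 1) (by rw [hf, pow_one]))
      (zpowers_le.mpr (mem_cent_of_commute hfe))
    have hm := hhS f (mem_zpowers f)
    have ho : orderOf (h * f * h⁻¹) = 2 := by rw [orderOf_conj_eq, hf]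
    have hle : centralizer ({h * f * h⁻¹} : Set G) ≤ centralizer ({e₁} : Set G) := by
      by_cases hc : ∀ p ∈ (S : Subgroup G), Commute p (h * f * h⁻¹)
      · exact hcentral _ ⟨ho, hm, hc⟩ e₁ he₁
      · exact hnoncentral _ hm ho hc e₁ he₁
    intro g hg
    have h1 := (commute_of_mem_cent hg).map (MulAut.conj h)
    rw [MulAut.conj_apply, MulAut.conj_apply] at h1
    have h2 := (commute_of_mem_cent (hle (mem_cent_of_commute h1))).map (MulAut.conj h⁻¹)
    rw [MulAut.conj_apply, MulAut.conj_apply, inv_inv] at h2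
    refine mem_cent_of_commute ?_
    rwa [show h⁻¹ * (h * g * h⁻¹) * h = g by group, show h⁻¹ * e₁ * h = e₁ by
      rw [mul_assoc, ← (commute_of_mem_cent hh).eq, inv_mul_cancel_left]] at h2
  -- the conjugates of `e₁` commute
  have hcom : ∀ g : G, Commute (g * e₁ * g⁻¹) e₁ := by
    intro g
    have hnc : ¬ IsConj w (g * e₁ * g⁻¹) := by
      intro h
      obtain ⟨x, hx⟩ := isConj_iff.mp h
      have hw' : w = (x⁻¹ * g) * e₁ * (x⁻¹ * g)⁻¹ := by
        rw [show x⁻¹ * g * e₁ * (x⁻¹ * g)⁻¹ = x⁻¹ * (g * e₁ * g⁻¹) * x by group, ← hx]; group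
      exact hwc (hw' ▸ (hconjE e₁ he₁ _ (hw' ▸ hwS)).2.2)
    obtain ⟨f, hf, hfw, hfe, -⟩ := Involution.exists_commuting_involution hw
      (y := g * e₁ * g⁻¹) (by rw [orderOf_conj_eq, he₁.1]) hnc
    have hfe₁ : Commute f e₁ :=
      commute_of_mem_cent (hnoncentral w hwS hw hwc e₁ he₁ (mem_cent_of_commute hfw))
    exact commute_of_mem_cent (hall f hf hfe₁ (mem_cent_of_commute hfe.symm))
  have hN : (Subgroup.normalClosure ({e₁} : Set G)) = ⊥ := by
    refine hn _ Subgroup.normalClosure_normal ?_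
    haveI : IsMulCommutative (Subgroup.normalClosure ({e₁} : Set G)) := by
      have hB : ∀ x ∈ Group.conjugatesOfSet ({e₁} : Set G),
          ∀ y ∈ Group.conjugatesOfSet ({e₁} : Set G), Commute x y := by
        intro x hx y hy
        simp only [Group.mem_conjugatesOfSet_iff, Set.mem_singleton_iff, exists_eq_left,
          isConj_iff] at hx hy
        obtain ⟨b, rfl⟩ := hx
        obtain ⟨c, rfl⟩ := hy
        have h1 := (hcom (c⁻¹ * b)).map (MulAut.conj c)
        rw [MulAut.conj_apply, MulAut.conj_apply] at h1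
        rwa [show c * (c⁻¹ * b * e₁ * (c⁻¹ * b)⁻¹) * c⁻¹ = b * e₁ * b⁻¹ by group] at h1
      refine ⟨⟨fun x y => Subtype.ext ?_⟩⟩
      have h1 : Subgroup.normalClosure ({e₁} : Set G) ≤
          centralizer (Group.conjugatesOfSet ({e₁} : Set G)) := (closure_le _).mpr fun a ha =>
        mem_centralizer_iff.mpr fun b hb => (hB b hb a ha).eq
      have h2 : Subgroup.normalClosure ({e₁} : Set G) ≤
          centralizer (Subgroup.normalClosure ({e₁} : Set G) : Set G) := (closure_le _).mpr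
        fun b hb => mem_centralizer_iff.mpr fun a ha =>
          (mem_centralizer_iff.mp (h1 ha) b hb).symm
      exact (mem_centralizer_iff.mp (h2 y.2) x x.2)
    exact Group.isSolvable_of_comm fun a b => mul_comm' a b
  exact ne_one_of_two he₁.1 (Subgroup.mem_bot.mp
    (hN ▸ Subgroup.subset_normalClosure (Set.mem_singleton e₁)))

end Cfsg.Agent.Normalisers5
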