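import Cfsg.Agent.Normalisers5.Core

/-!
# The `2`-subgroups under the normaliser hypothesis

Squares of elements of order four are central, and a Sylow subgroup with an involution centralised
only by involutions is abelian with an inverting involution on top.
-/

set_option autoImplicit false
set_option linter.style.haveILetI false
set_option linter.unusedSectionVars false

namespace Cfsg.Agent.Normalisers5

open Subgroup

variable {G : Type*} [Group G] [Finite G]

theorem iota_of_mem_zpowers {a c : G} (hc : c ∈ zpowers a) (he : Even (orderOf c)) :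
    iota c = iota a :=
  eq_iota (zpowers_le.mpr hc (iota_mem c)) (orderOf_iota he)

/-- Two elements of a `2`-group which normalise each other and have different involutions
commute. -/
theorem commute_of_iota_ne {P : Subgroup G} (hP : IsPGroup 2 P) {a b : G} (ha : a ∈ P) 
    (hab : a * b * a⁻¹ ∈ zpowers b) (hba : b * a * b⁻¹ ∈ zpowers a) (hne : iota a ≠ iota b) :
    Commute a b := by
  set c := a * b * a⁻¹ * b⁻¹ with hc
  have hcb : c ∈ zpowers b := mul_mem hab (inv_mem (mem_zpowers b))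
  have hca : c ∈ zpowers a := by
    rw [show c = a * (b * a * b⁻¹)⁻¹ by rw [hc]; group]
    exact mul_mem (mem_zpowers a) (inv_mem hba)
  by_cases hc1 : c = 1
  · rw [hc, mul_inv_eq_one, mul_inv_eq_iff_eq_mul] at hc1
    exact hc1
  · have he : Even (orderOf c) := even_of_mem hP (zpowers_le.mpr ha hca) hc1
    exact absurd ((iota_of_mem_zpowers hca he).symm.trans (iota_of_mem_zpowers hcb he)) hne

theorem orderOf_four {y : G} (h2 : y * y ≠ 1) (h4 : (y * y) * (y * y) = 1) : orderOf y = 4 := by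
  haveI : Fact (Nat.Prime 2) := ⟨Nat.prime_two⟩
  refine orderOf_eq_prime_pow (p := 2) (n := 1) ?_ ?_
  · rwa [pow_one, pow_two]
  · rw [show (2 : ℕ) ^ (1 + 1) = 2 + 2 from rfl, pow_add, pow_two, h4]

theorem iota_four {y : G} (h : orderOf y = 4) : iota y = y * y := by
  rw [iota, h, show 4 / 2 = 2 from rfl, pow_two]

theorem exists_normalising {P : Subgroup G} (hP : IsPGroup 2 P) {D : Subgroup G} (hD : D < P) :
    ∃ g ∈ P, g ∉ D ∧ g * g ∈ D ∧ ∀ x ∈ D, g * x * g⁻¹ ∈ D ∧ g⁻¹ * x * g ∈ D := by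
  haveI : Fact (Nat.Prime 2) := ⟨Nat.prime_two⟩
  haveI := hP.isNilpotent
  set D' := D.subgroupOf P with hD'
  have hlt : D' < ⊤ := by
    refine lt_top_iff_ne_top.mpr fun h => hD.not_ge ?_
    rwa [hD', Subgroup.subgroupOf_eq_top] at h
  obtain ⟨n, hn, hnD⟩ := SetLike.exists_of_lt
    (Group.normalizerCondition_of_isNilpotent D' hlt)
  classical
  have hex : ∃ j, n ^ 2 ^ j ∈ D' := by
    obtain ⟨j, hj⟩ := hP n
    exact ⟨j, by rw [hj]; exact one_mem _⟩
  obtain ⟨j, hj⟩ : ∃ j, Nat.find hex = j + 1 := by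
    refine ⟨Nat.find hex - 1, (Nat.succ_pred_eq_of_ne_zero fun h => hnD ?_).symm⟩
    have := Nat.find_spec hex
    rwa [h, pow_zero, pow_one] at this
  set g := n ^ 2 ^ j
  have hg : g ∈ normalizer (D' : Set P) := pow_mem hn _
  have hg1 : g ∉ D' := Nat.find_min hex (by omega)
  have hg2 : g * g ∈ D' := by
    have := Nat.find_spec hex
    rwa [hj, pow_succ, pow_mul, pow_two] at this
  refine ⟨g, g.2, hg1, hg2, fun x hx => ⟨?_, ?_⟩⟩
  · exact (Subgroup.mem_normalizer_iff.mp hg ⟨x, hD.le hx⟩).mp hx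
  · have := (Subgroup.mem_normalizer_iff.mp (inv_mem hg) ⟨x, hD.le hx⟩).mp hx
    rw [inv_inv] at this
    exact this

/-- In a `2`-subgroup the square of an element of order four is central. -/
theorem sq_central (hG : Hyp G) {P : Subgroup G} (hP : IsPGroup 2 P) {y : G} (hy : y ∈ P)
    (h4 : orderOf y = 4) : ∀ p ∈ P, Commute p (y * y) := by
  by_contra hcon
  set w := y * y with hw
  have hw2 : orderOf w = 2 := by
    rw [hw, ← iota_four h4]; exact orderOf_iota (by rw [h4]; decide)
  have hlt : P ⊓ centralizer ({w} : Set G) < P := by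
    refine inf_le_left.lt_of_ne fun h => hcon fun p hp => ?_
    rw [← h] at hp
    exact commute_of_mem_cent hp.2
  obtain ⟨g, hgP, hgD, hg2, hconj⟩ := exists_normalising hP hlt
  have hyD : y ∈ P ⊓ centralizer ({w} : Set G) :=
    ⟨hy, mem_cent_of_commute ((Commute.refl y).mul_right (Commute.refl y))⟩
  set y' := g * y * g⁻¹ with hy'
  set w' := g * w * g⁻¹ with hw'
  have hww : y' * y' = w' := by rw [hy', hw', hw]; group
  have hy'4 : orderOf y' = 4 := by rw [hy', orderOf_conj_eq, h4]
  have hy'w : Commute y' w := commute_of_mem_cent (hconj y hyD).1.2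
  have hyw' : Commute y w' := by
    have h := ((commute_of_mem_cent (hconj y hyD).2.2).map (MulAut.conj g))
    rw [MulAut.conj_apply, MulAut.conj_apply] at h
    rwa [show g * (g⁻¹ * y * g) * g⁻¹ = y by group] at h
  have hne : w ≠ w' := fun h => hgD ⟨hgP, mem_cent_of_commute (by
    show g * w = w * g
    conv_rhs => rw [h, hw', inv_mul_cancel_right])⟩
  have hy'P : y' ∈ P := mul_mem (mul_mem hgP hy) (inv_mem hgP)
  have hnorm : normalizer (zpowers y : Set G) = centralizer ({w} : Set G) := by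
    rw [norm_even hG (by rw [h4]; decide), iota_four h4]
  have hnorm' : normalizer (zpowers y' : Set G) = centralizer ({w'} : Set G) := by
    rw [norm_even hG (by rw [hy'4]; decide), iota_four hy'4, hww]
  have hyy : Commute y y' := commute_of_iota_ne hP hy
    (conj_mem_zpowers (hnorm' ▸ mem_cent_of_commute hyw'))
    (conj_mem_zpowers (hnorm ▸ mem_cent_of_commute hy'w))
    (by rw [iota_four h4, iota_four hy'4, hww]; exact hne)
  have hwwc : Commute w w' := hww ▸ (hyy.mul_left hyy).mul_right (hyy.mul_left hyy)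
  -- the product
  set u := y * y' with hu
  set e := w * w' with he
  have huu : u * u = e := by
    rw [hu, he, ← hww, hw]
    exact Commute.mul_mul_mul_comm hyy.symm y y'
  have he1 : e ≠ 1 := fun h => hne (by
    rw [he] at h
    rw [eq_inv_of_mul_eq_one_right h, inv_eq_self' hw2])
  have hee : e * e = 1 := by
    rw [he, Commute.mul_mul_mul_comm hwwc.symm, mul_self_eq_one hw2, one_mul, hw',
      show g * w * g⁻¹ * (g * w * g⁻¹) = g * (w * w) * g⁻¹ by group, mul_self_eq_one hw2]
    group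
  have hu4 : orderOf u = 4 := orderOf_four (by rw [huu]; exact he1) (by rw [huu]; exact hee)
  have hgg : Commute (g * g) w := commute_of_mem_cent hg2.2
  have hgw' : g * w' * g⁻¹ = w := by
    rw [hw', show g * (g * w * g⁻¹) * g⁻¹ = g * g * w * (g * g)⁻¹ by group, hgg.eq,
      mul_inv_cancel_right]
  have hge : Commute g e := by
    have h : g * e * g⁻¹ = e := by
      rw [he, ← conj_mul, ← hw', hgw']; exact hwwc.eq.symm
    exact mul_inv_eq_iff_eq_mul.mp h
  set y2 := g * y' * g⁻¹ with hy2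
  have hy2' : y2 = g * g * y * (g * g)⁻¹ := by rw [hy2, hy']; group
  have hy2m : y2 = y ∨ y2 = y⁻¹ := eq_or_eq_inv_of_four h4
    (hy2' ▸ conj_mem_zpowers (hnorm ▸ mem_cent_of_commute hgg)) (by rw [hy2, orderOf_conj_eq, hy'4])
  have hgu : g * u * g⁻¹ = u ∨ g * u * g⁻¹ = u⁻¹ := eq_or_eq_inv_of_four hu4
    (conj_mem_zpowers ((norm_even hG (by rw [hu4]; decide)).symm ▸
      (mem_cent_of_commute (by rw [iota_four hu4, huu]; exact hge))))
    (by rw [orderOf_conj_eq, hu4])
  have hgu' : g * u * g⁻¹ = y' * y2 := by rw [hu, hy2, hy']; group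
  have hy2y : y2 = y := by
    refine hy2m.resolve_right fun h => ?_
    rw [hgu', h] at hgu
    rcases hgu with h | h
    · refine absurd (show y * y = 1 from ?_) (ne_one_of_two hw2)
      rw [← hyy.inv_left.eq, hu, mul_left_inj] at h
      calc y * y = y⁻¹ * y := by rw [h]
        _ = 1 := inv_mul_cancel y
    · have h' : y' = y'⁻¹ := by
        rw [hu, hyy.eq, mul_inv_rev, ← hyy.inv_left.eq] at h
        exact mul_left_cancel h
      have hww1 : w' = 1 := by
        rw [← hww]; nth_rw 2 [h']; exact mul_inv_cancel y'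
      rw [hw', conj_eq_one_iff] at hww1
      exact ne_one_of_two hw2 hww1
  set v := y * y'⁻¹ with hv
  have hgv : g * v * g⁻¹ = v⁻¹ := by
    calc g * v * g⁻¹ = y' * y2⁻¹ := by rw [hv, hy2, hy']; group
      _ = v⁻¹ := by rw [hy2y, hv, mul_inv_rev, inv_inv]
  have hnot : ¬ Commute g v := by
    intro h
    rw [h.eq, mul_inv_cancel_right] at hgv
    refine hne ?_
    have hvv : v * v = 1 := by nth_rw 2 [hgv]; exact mul_inv_cancel v
    rw [hv, Commute.mul_mul_mul_comm (hyy.inv_right).symm, ← mul_inv_rev, hww,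
      mul_inv_eq_one] at hvv
    exact hvv
  have hgy2 : Commute (g * g) y := by
    have := hy2'.symm.trans hy2y
    exact mul_inv_eq_iff_eq_mul.mp this
  by_cases hg1 : g * g = 1
  · -- `g` is an involution
    have hgi : g⁻¹ = g := inv_eq_of_mul_eq_one_left hg1
    set h := g * y with hh
    have hhh : h * h = u := by
      rw [hh, hu, show g * y * (g * y) = g * y * g * y by group]
      nth_rw 2 [← hgi]
      rw [← hy', hyy.eq]
    have hh8 : orderOf h = 8 := by
      haveI : Fact (Nat.Prime 2) := ⟨Nat.prime_two⟩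
      refine orderOf_eq_prime_pow (p := 2) (n := 2) ?_ ?_
      · rw [show (2 : ℕ) ^ 2 = 2 * 2 from rfl, pow_mul, pow_two h, hhh, pow_two, huu]; exact he1
      · rw [show (2 : ℕ) ^ (2 + 1) = 2 * (2 * 2) from rfl, pow_mul, pow_two h, hhh, pow_mul,
          pow_two u, huu, pow_two, hee]
    have hye : Commute y e := ((Commute.refl y).mul_right (Commute.refl y)).mul_right hyw'
    have hiota : iota h = e := by
      rw [iota, hh8, show 8 / 2 = 2 * 2 from rfl, pow_mul, pow_two h, hhh, pow_two, huu]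
    have hmem : y * h * y⁻¹ ∈ zpowers h := conj_mem_zpowers
      ((norm_even hG (by rw [hh8]; decide)).symm ▸ mem_cent_of_commute (hiota.symm ▸ hye))
    have hvh : v⁻¹ ∈ zpowers h := by
      have e1 : v⁻¹ = h⁻¹ * (y * h * y⁻¹) := by
        rw [hh, show (g * y)⁻¹ * (y * (g * y) * y⁻¹) = y⁻¹ * (g⁻¹ * y * g) by group, hgi]
        nth_rw 2 [← hgi]
        rw [← hy', hv, mul_inv_rev, inv_inv]
        exact (hyy.inv_left).eq.symm
      rw [e1]; exact mul_mem (inv_mem (mem_zpowers h)) hmem
    obtain ⟨j, hj⟩ := mem_zpowers_iff.mp hvh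
    have hc : Commute v h := by
      have : Commute v⁻¹ h := hj ▸ (Commute.refl h).zpow_left j
      simpa using this.inv_left
    have hvy : Commute v y := (Commute.refl y).mul_left hyy.symm.inv_left
    refine hnot (Commute.symm ?_)
    have := hc.mul_right hvy.inv_right
    rwa [hh, mul_inv_cancel_right] at this
  · -- `g` has order at least four
    obtain ⟨k, hk⟩ := even_orderOf_of_mem hP hgP (fun h => hg1 (by rw [h, one_mul]))
    obtain ⟨k, rfl⟩ : ∃ k', k = k' + 1 := by
      refine ⟨k - 1, (Nat.succ_pred_eq_of_ne_zero fun h => hg1 ?_).symm⟩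
      rw [h, zero_add, pow_one] at hk
      exact mul_self_eq_one hk
    have hcy : Commute y (iota g) := by
      rw [iota, hk, show 2 ^ (k + 1 + 1) / 2 = 2 * 2 ^ k by
        rw [pow_succ, Nat.mul_div_cancel _ two_pos, pow_succ, mul_comm], pow_mul, pow_two]
      exact hgy2.symm.pow_right _
    have hmem : y * g * y⁻¹ ∈ zpowers g := conj_mem_zpowers
      ((norm_even hG (even_of_mem hP hgP (fun h => hg1 (by rw [h, one_mul])))).symm ▸
        mem_cent_of_commute hcy)
    have hvg : v⁻¹ ∈ zpowers g := by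
      have e1 : v⁻¹ = g * (y * g * y⁻¹)⁻¹ := by
        rw [hv, mul_inv_rev, inv_inv, hy']; group
      rw [e1]; exact mul_mem (mem_zpowers g) (inv_mem hmem)
    obtain ⟨j, hj⟩ := mem_zpowers_iff.mp hvg
    refine hnot ?_
    have : Commute g v⁻¹ := hj ▸ (Commute.refl g).zpow_right j
    simpa using this.inv_right

theorem iota_central (hG : Hyp G) {P : Subgroup G} (hP : IsPGroup 2 P) {y : G} (hy : y ∈ P)
    (hbig : y * y ≠ 1) : ∀ p ∈ P, Commute p (iota y) := by
  obtain ⟨k, hk⟩ := even_orderOf_of_mem hP hy (fun h => hbig (by rw [h, one_mul]))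
  obtain ⟨k, rfl⟩ : ∃ k', k = k' + 1 := by
    refine ⟨k - 1, (Nat.succ_pred_eq_of_ne_zero fun h => hbig ?_).symm⟩
    rw [h, zero_add, pow_one] at hk
    exact mul_self_eq_one hk
  have h4 : orderOf (y ^ 2 ^ k) = 4 := by
    rw [orderOf_pow_of_dvd (by positivity) (hk ▸ pow_dvd_pow 2 (by omega)), hk,
      Nat.pow_div (by omega) two_pos, show k + 1 + 1 - k = 2 by omega]
    rfl
  have he : iota y = y ^ 2 ^ k * y ^ 2 ^ k := by
    rw [← iota_four h4]
    exact (iota_of_mem_zpowers (npow_mem_zpowers _ _) (by rw [h4]; decide)).symm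
  intro p hp
  rw [he]
  exact sq_central hG hP (pow_mem hy _) h4 p hp

theorem conj_mem_of_big (hG : Hyp G) {P : Subgroup G} (hP : IsPGroup 2 P) {y : G} (hy : y ∈ P)
    (hbig : y * y ≠ 1) {p : G} (hp : p ∈ P) : p * y * p⁻¹ ∈ zpowers y :=
  conj_mem_zpowers ((norm_even hG (even_of_mem hP hy (fun h => hbig (by rw [h, one_mul])))).symm ▸
    mem_cent_of_commute (iota_central hG hP hy hbig p hp))

section GenDih

variable (hG : Hyp G) {P : Subgroup G} (hP : IsPGroup 2 P) {w : G} (hw : w ∈ P)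
  (hw2 : orderOf w = 2) (hexp : ∀ d ∈ P, Commute d w → d * d = 1)
include hG hP hw hw2 hexp

theorem inverts_big {y : G} (hy : y ∈ P) (hbig : y * y ≠ 1) : w * y * w⁻¹ = y⁻¹ := by
  rw [inv_eq_self' hw2]
  by_contra hne
  have hwy : (w * y) * (w * y) ≠ 1 := fun h => hne
    (eq_inv_of_mul_eq_one_left (by rw [mul_assoc (w * y) w y]; exact h))
  have hmem := conj_mem_of_big hG hP (mul_mem hw hy) hwy hw
  obtain ⟨j, hj⟩ := mem_zpowers_iff.mp hmem
  have hc : Commute (w * (w * y) * w⁻¹) (w * y) := hj ▸ (Commute.refl (w * y)).zpow_left j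
  rw [← mul_assoc w w, mul_self_eq_one hw2, one_mul, inv_eq_self' hw2] at hc
  have hy2 : Commute (y * y) w := by
    have h := hc.eq
    have h' : y * (w * w) * y = w * (y * y) * w := by simpa only [mul_assoc] using h
    rw [mul_self_eq_one hw2, mul_one] at h'
    show y * y * w = w * (y * y)
    calc y * y * w = w * (y * y) * w * w := by rw [← h']
      _ = _ := by rw [mul_assoc, mul_self_eq_one hw2, mul_one]
  have hy4 : orderOf y = 4 := orderOf_four hbig (hexp _ (mul_mem hy hy) hy2)
  have hmem' := conj_mem_of_big hG hP hy hbig hw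
  rcases eq_or_eq_inv_of_four hy4 hmem' (by rw [orderOf_conj_eq, hy4]) with h | h
  · exact hbig (hexp y hy (mul_inv_eq_iff_eq_mul.mp h).symm)
  · rw [inv_eq_self' hw2] at h
    exact hne h

theorem big_commute {y z : G} (hy : y ∈ P) (hy2 : y * y ≠ 1) (hz : z ∈ P) (hz2 : z * z ≠ 1) :
    Commute y z := by
  have hcase : ∀ z : G, z ∈ P → z * z ≠ 1 → Commute y z ∨ y * z * (y * z) = 1 := by
    intro z hz hz2
    refine or_iff_not_imp_right.mpr fun hne => ?_
    have h := inverts_big hG hP hw hw2 hexp (mul_mem hy hz) hne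
    rw [← conj_mul, inverts_big hG hP hw hw2 hexp hy hy2,
      inverts_big hG hP hw hw2 hexp hz hz2, ← mul_inv_rev, inv_inj] at h
    exact h.symm
  by_contra hnc
  have h1 := (hcase z hz hz2).resolve_left hnc
  have h2 := (hcase z⁻¹ (inv_mem hz) (by rw [← mul_inv_rev]; exact inv_ne_one.mpr hz2)).resolve_left
    (fun h => hnc (by simpa using h.inv_right))
  have key : ∀ a b : G, a ∈ P → b ∈ P → a * a ≠ 1 → b * b ≠ 1 → a * b * (a * b) = 1 →
      a * b⁻¹ * (a * b⁻¹) = 1 →
      orderOf a = 4 ∧ a * a ∈ zpowers b ∧ a * b * a⁻¹ = b⁻¹ * (a * a)⁻¹ := by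
    intro a b ha hb ha2 hb2 h1 h2
    have e1 : a * b * a = b⁻¹ := eq_inv_of_mul_eq_one_left (by rw [mul_assoc (a * b) a b]; exact h1)
    have e2 : a * b⁻¹ * a = b := by
      have := eq_inv_of_mul_eq_one_left (a := a * b⁻¹ * a) (b := b⁻¹)
        (by rw [mul_assoc (a * b⁻¹) a b⁻¹]; exact h2)
      rwa [inv_inv] at this
    have ec : a * b * a⁻¹ = b⁻¹ * (a * a)⁻¹ := by rw [← e1]; group
    have hmem := conj_mem_of_big hG hP hb hb2 ha
    have haa : a * a ∈ zpowers b := by
      rw [show a * a = ((a * b * a⁻¹)⁻¹) * b⁻¹ by rw [ec]; simp [mul_assoc]]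
      exact mul_mem (inv_mem hmem) (inv_mem (mem_zpowers b))
    obtain ⟨j, hj⟩ := mem_zpowers_iff.mp haa
    have hc : Commute (a * a) b := hj ▸ (Commute.refl b).zpow_left j
    refine ⟨orderOf_four ha2 ?_, haa, ec⟩
    have : a * a * (a * a) * b = b := by
      rw [mul_assoc, hc.eq]
      conv_rhs => rw [← e2, ← e1]
      simp only [mul_assoc]
    simpa using this
  obtain ⟨hy4, hyz, ec⟩ := key y z hy hz hy2 hz2 h1 h2
  obtain ⟨hz4, -, -⟩ := key z y hz hy hz2 hy2 (by
      have := congrArg (fun x => y⁻¹ * x * y) h1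
      simpa [mul_assoc] using this)
    (by
      have := congrArg (fun x => x⁻¹) h2
      simpa [mul_assoc] using this)
  have hsq : y * y = z * z := by
    rw [← iota_four hz4]
    refine eq_iota hyz ?_
    rw [← iota_four hy4]
    exact orderOf_iota (by rw [hy4]; decide)
  refine hnc ?_
  rw [hsq] at ec
  have hz4' : z * z * (z * z) = 1 := by
    rw [← pow_two z, ← pow_add, show 2 + 2 = orderOf z from hz4.symm]; exact pow_orderOf_eq_one z
  rw [inv_eq_of_mul_eq_one_left hz4', show z⁻¹ * (z * z) = z by group,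
    mul_inv_eq_iff_eq_mul] at ec
  exact ec

theorem gendih (hex : ∃ y ∈ P, y * y ≠ 1) : ∃ A : Subgroup G, A ≤ P ∧
    (∀ a ∈ A, ∀ b ∈ A, Commute a b) ∧ (∀ a ∈ A, w * a * w⁻¹ = a⁻¹) ∧ w ∉ A ∧
    (∀ y ∈ P, y * y ≠ 1 → y ∈ A) ∧ ∀ p ∈ P, p ∈ A ∨ w * p ∈ A := by
  set B : Set G := {y | y ∈ P ∧ y * y ≠ 1} with hB
  set A := closure B with hA
  have hB1 : A ≤ centralizer B := (closure_le _).mpr fun a ha =>
    mem_centralizer_iff.mpr fun b hb => (big_commute hG hP hw hw2 hexp hb.1 hb.2 ha.1 ha.2).eq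
  have hB2 : A ≤ centralizer (A : Set G) := (closure_le _).mpr fun b hb =>
    mem_centralizer_iff.mpr fun a ha => (mem_centralizer_iff.mp (hB1 ha) b hb).symm
  have hcomm : ∀ a ∈ A, ∀ b ∈ A, Commute a b := fun a ha b hb =>
    (mem_centralizer_iff.mp (hB2 ha) b hb).symm
  have hinv : ∀ a ∈ A, w * a * w⁻¹ = a⁻¹ := by
    intro a ha
    induction ha using closure_induction with
    | mem x hx => exact inverts_big hG hP hw hw2 hexp hx.1 hx.2
    | one => simp
    | mul x y hx hy ihx ihy =>
      rw [← conj_mul, ihx, ihy, mul_inv_rev]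
      exact ((hcomm x hx y hy).inv_inv).eq
    | inv x hx ih => rw [← conj_inv, ih]
  have hbig : ∀ y ∈ P, y * y ≠ 1 → y ∈ A := fun y hy h => subset_closure ⟨hy, h⟩
  obtain ⟨y, hy, hy2⟩ := hex
  refine ⟨A, (closure_le _).mpr fun a ha => ha.1, hcomm, hinv, fun hwA => ?_, hbig, fun p hp => ?_⟩
  · have h := hinv y (hbig y hy hy2)
    rw [(hcomm w hwA y (hbig y hy hy2)).eq, mul_inv_cancel_right] at h
    exact hy2 (by nth_rw 2 [h]; exact mul_inv_cancel y)
  · by_cases h1 : p * p = 1
    swap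
    · exact Or.inl (hbig p hp h1)
    by_cases h2 : (w * p) * (w * p) = 1
    swap
    · exact Or.inr (hbig _ (mul_mem hw hp) h2)
    by_cases h3 : (p * y) * (p * y) = 1
    swap
    · left
      have := mul_mem (hbig _ (mul_mem hp hy) h3) (inv_mem (hbig y hy hy2))
      rwa [mul_inv_cancel_right] at this
    right
    have hpi : p⁻¹ = p := inv_eq_of_mul_eq_one_left h1
    have hpy : p * y * p⁻¹ = y⁻¹ := by
      rw [hpi]; exact eq_inv_of_mul_eq_one_left (by rw [mul_assoc (p * y) p y]; exact h3)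
    have hc : Commute (w * p) y := by
      have : w * p * y * (w * p)⁻¹ = y := by
        rw [show w * p * y * (w * p)⁻¹ = w * (p * y * p⁻¹) * w⁻¹ by group, hpy, ← conj_inv,
          inverts_big hG hP hw hw2 hexp hy hy2, inv_inv]
      exact mul_inv_eq_iff_eq_mul.mp this
    have hq : (w * p * y) * (w * p * y) ≠ 1 := by
      rw [Commute.mul_mul_mul_comm hc.symm, h2, one_mul]; exact hy2
    have := mul_mem (hbig _ (mul_mem (mul_mem hw hp) hy) hq) (inv_mem (hbig y hy hy2))
    rwa [mul_inv_cancel_right] at this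

end GenDih

end Cfsg.Agent.Normalisers5
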